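import Groth.Agent.VarAmp.Integral
import Groth.Agent.S0050
import Groth.Agent.S1519
import Groth.Agent.S1529
import Groth.Agent.CurveCohLib.Nonspecial
import Groth.Agent.CurveCohLib.Clifford
import Groth.Agent.Lib.CurveRR
import Groth.Agent.H23.TopDim
import Mathlib.AlgebraicGeometry.Morphisms.QuasiFinite

/-! Ampleness and degree on integral proper curves. -/

noncomputable section

set_option linter.style.haveILetI false
set_option linter.unusedSectionVars false
set_option backward.isDefEq.respectTransparency false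
set_option backward.isDefEq.respectTransparency.types false

universe u

open CategoryTheory CategoryTheory.Limits AlgebraicGeometry TopologicalSpace

namespace Groth.Agent.VarAmp

open Groth.Agent

theorem ne_zero_of_mem_genLocus {X : Scheme.{u}} {L : X.Modules} {s : Coh.structureModule X ⟶ L} {x : X}
    (hx : x ∈ CohB1.genLocus L s) : s ≠ 0 := by
  rintro rfl
  obtain ⟨(U : X.Opens), hU, hxU⟩ := Opens.mem_sSup.1 hx
  haveI : Nontrivial Γ(U.toScheme, ⊤) := (U.toScheme.presheaf.germ ⊤ ⟨x, hxU⟩ trivial).hom.domain_nontrivial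
  have hU' : IsIso ((Scheme.Modules.restrictFunctor U.ι).map (0 : Coh.structureModule X ⟶ L)) := hU
  rw [Functor.map_zero] at hU'
  have hid := ((isIsoZeroEquiv _ _) hU').1
  have h0 := congr(($(hid)).app ⊤ (show Γ((Coh.structureModule X).restrict U.ι, ⊤) from (1 : Γ(X, U.ι ''ᵁ ⊤))))
  haveI : Nontrivial Γ(X, U.ι ''ᵁ ⊤) := (X.presheaf.germ (U.ι ''ᵁ ⊤) x
    ⟨⟨x, hxU⟩, trivial, rfl⟩).hom.domain_nontrivial
  exact one_ne_zero (show (1 : Γ(X, U.ι ''ᵁ ⊤)) = 0 from h0)

variable {X : Scheme.{u}} (k : Type u) [Field k] [X.Over (Spec (CommRingCat.of k))]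
  [IsIntegral X] [IsProper (X ↘ Spec (CommRingCat.of k))]

theorem deg_tensorPow (hdim : topologicalKrullDim X = 1) {L : X.Modules} (hL : PicF.IsInvertible L) :
    ∀ m : ℕ, Curv2.deg k X (CohB1.tensorPow L m) 1 = m * Curv2.deg k X L 1
  | 0 => by
    show Curv2.deg k X (Coh.structureModule X) 1 = _
    rw [CurveDeg.deg_structureModule]
    simp
  | m + 1 => by
    show Curv2.deg k X ((DCoh.tensorBi.obj (CohB1.tensorPow L m)).obj L) 1 = _
    rw [CurveRR.deg_tensor k hdim (H23.PicMul.isInvertible_tensorPow hL m) hL, deg_tensorPow hdim hL m]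
    push_cast
    ring

theorem h1_twist_eventually (hdim : topologicalKrullDim X = 1) {L : X.Modules} (hL : PicF.IsInvertible L)
    (hdeg : 0 < Curv2.deg k X L 1) {I : X.Modules} (ι : I ⟶ Coh.structureModule X) [Mono ι]
    (hI : Coh.IsQCoh I) :
    ∃ n : ℕ, Subsingleton (Coh.HH X (CohB1.tensorMod I (CohB1.tensorPow L (n + 1))) 1) := by
  haveI := CurveCohLib.isNoetherian_of_proper (k := k) (X := X)
  have hIc : Coh.IsCoh I := QCoh.isCoh_of_mono ι QCoh.isCoh_structureModule' hI
  rcases Nat.eq_zero_or_pos (CurveBundle.rk I) with hrk | hrk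
  · refine ⟨0, ?_⟩
    have hTcl : ∀ x ∈ CohB1.support I, IsClosed ({x} : Set X) := fun x hx => by
      by_contra hxc
      obtain rfl := CurveCohLib.eq_genericPoint_of_not_isClosed hdim hxc
      letI := (CurveBundle.isField_stalk_generic (X := X)).toField
      haveI := CurveBundle.finite_stalk_of_coh hIc (genericPoint X)
      exact hx (Module.finrank_zero_iff.1 hrk)
    have hsub : CohB1.support ((DCoh.tensorBi.obj (CohB1.tensorPow L (0 + 1))).obj I) ⊆ CohB1.support I :=
      CurveTensor.support_tensor_subset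
    haveI := CurveVanish.subsingleton_HH_of_finite (M := (DCoh.tensorBi.obj (CohB1.tensorPow L (0 + 1))).obj I)
      (CurveCohLib.finite_of_closedPoints (QCoh.isClosed_support_of_isFT hIc.1 hIc.2) hTcl) hTcl
      (fun x hx => not_not.1 fun h => hx (hsub h)) 0
    exact (CurveCohLib.hhEquiv (k := k) (CurveTensor.commIso (CohB1.tensorPow L (0 + 1)) I) 1).symm.toEquiv.subsingleton
  · let m : ℕ := ((Curv2.genus k X : ℤ) - Curv2.euler k X I).toNat
    refine ⟨m, ?_⟩
    have hP := H23.PicMul.isInvertible_tensorPow hL (m + 1)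
    have hP1 := InvEnd.isFinLocFreeOfRank_one hP
    have hPf : FlatMod.IsFinLocFree (CohB1.tensorPow L (m + 1)) :=
      fun y => let ⟨W, hy, he⟩ := hP1 y; ⟨W, 1, hy, he⟩
    have hFc : Coh.IsCoh ((DCoh.tensorBi.obj (CohB1.tensorPow L (m + 1))).obj I) :=
      CurveTensor.isCoh_tensor hPf hIc
    have hχ : Curv2.euler k X ((DCoh.tensorBi.obj (CohB1.tensorPow L (m + 1))).obj I) =
        (CurveBundle.rk I : ℤ) * (((m + 1 : ℕ) : ℤ) * Curv2.deg k X L 1) + Curv2.euler k X I := by
      rw [CurveTensor.euler_tensor k hdim hP1 hIc, deg_tensorPow k hdim hL]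
      push_cast
      ring
    have hbig : (Curv2.genus k X : ℤ) ≤
        Curv2.euler k X ((DCoh.tensorBi.obj (CohB1.tensorPow L (m + 1))).obj I) := by
      have h1 : ((m + 1 : ℕ) : ℤ) * 1 ≤ ((m + 1 : ℕ) : ℤ) * Curv2.deg k X L 1 :=
        mul_le_mul_of_nonneg_left (by omega) (Int.natCast_nonneg _)
      have h2 : 1 * (((m + 1 : ℕ) : ℤ) * Curv2.deg k X L 1) ≤
          (CurveBundle.rk I : ℤ) * (((m + 1 : ℕ) : ℤ) * Curv2.deg k X L 1) :=
        mul_le_mul_of_nonneg_right (by exact_mod_cast hrk)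
          (mul_nonneg (Int.natCast_nonneg _) (by omega))
      have h3 := Int.self_le_toNat ((Curv2.genus k X : ℤ) - Curv2.euler k X I)
      rw [hχ]
      push_cast at h1 h2 ⊢
      omega
    haveI : Mono ((AmpleVan.tw (CohB1.tensorPow L (m + 1))).map ι) := by
      haveI := AmpleVan.isEquivalence_tw hP
      infer_instance
    let j : (DCoh.tensorBi.obj (CohB1.tensorPow L (m + 1))).obj I ⟶ CohB1.tensorPow L (m + 1) :=
      (CurveTensor.commIso (CohB1.tensorPow L (m + 1)) I).hom ≫
        (AmpleVan.tw (CohB1.tensorPow L (m + 1))).map ι ≫ (CurveTensor.structureTensorIso _).hom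
    have := CurveCohLib.Nonspecial.h1_of_euler k hdim hFc
      (fun φ hφ => CurveCohLib.Nonspecial.section_of_sub k hFc hP j φ hφ) hbig
    exact (CurveCohLib.hhEquiv (k := k) (CurveTensor.commIso (CohB1.tensorPow L (m + 1)) I) 1).symm.toEquiv.subsingleton

theorem isAmple_of_deg_pos (hdim : topologicalKrullDim X = 1) {L : X.Modules} (hL : PicF.IsInvertible L)
    (hdeg : 0 < Curv2.deg k X L 1) : CohB1.IsAmple L := by
  haveI := CurveCohLib.isNoetherian_of_proper (k := k) (X := X)
  exact S0050.result X L hL fun I i hi hI => by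
    haveI := hi
    exact h1_twist_eventually k hdim hL hdeg i hI

theorem deg_pos_of_isAmple (hdim : topologicalKrullDim X = 1) {L : X.Modules} (hamp : CohB1.IsAmple L) :
    0 < Curv2.deg k X L 1 := by
  obtain ⟨hL, -, h⟩ := hamp
  obtain ⟨n, s, hx, haff⟩ := h (genericPoint X)
  have hs : s ≠ 0 := ne_zero_of_mem_genLocus hx
  obtain ⟨x, hxn⟩ : ∃ x, x ∉ CohB1.genLocus (CohB1.tensorPow L (n + 1)) s := by
    by_contra! hc
    rw [show CohB1.genLocus (CohB1.tensorPow L (n + 1)) s = ⊤ from top_le_iff.1 fun x _ => hc x] at haff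
    haveI : IsAffine (⊤ : X.Opens).toScheme := haff
    haveI : IsAffine X := IsAffine.of_isIso (Scheme.topIso X).inv
    haveI : IsFinite (X ↘ Spec (CommRingCat.of k)) :=
      (IsFinite.iff_isProper_and_isAffineHom).2 ⟨inferInstance, inferInstance⟩
    haveI : LocallyQuasiFinite (X ↘ Spec (CommRingCat.of k)) := inferInstance
    haveI : DiscreteTopology X := by
      have h := (X ↘ Spec (CommRingCat.of k)).isDiscrete_preimage_singleton default
      rw [show (X ↘ Spec (CommRingCat.of k)) ⁻¹' {default} = Set.univ from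
        Set.eq_univ_of_forall fun x => Subsingleton.elim _ _] at h
      exact isDiscrete_univ_iff.1 h
    have h0 : topologicalKrullDim X ≤ 0 := H23.TopDim.dim_le fun p => by
      rcases Nat.eq_zero_or_pos p.length with h0 | h0
      · simp [h0]
      exfalso
      have hlt := p.strictMono (show (⟨0, by omega⟩ : Fin (p.length + 1)) < ⟨1, by omega⟩ from Nat.zero_lt_one)
      obtain ⟨a, ha⟩ := (p ⟨0, by omega⟩).isIrreducible.nonempty
      obtain ⟨b, hb, hab⟩ := Set.exists_of_ssubset (SetLike.coe_ssubset_coe.2 hlt)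
      have hirr := (p ⟨1, by omega⟩).isIrreducible
      obtain ⟨z, -, hz1, hz2⟩ := hirr.2 {a} {b} (isOpen_discrete _) (isOpen_discrete _)
        ⟨a, SetLike.coe_subset_coe.2 hlt.le ha, rfl⟩ ⟨b, hb, rfl⟩
      exact hab ((hz2.symm.trans hz1) ▸ ha)
    rw [hdim] at h0
    exact absurd h0 (by decide)
  have hp := S1519.result k X hdim (CohB1.tensorPow L (n + 1)) (H23.PicMul.isInvertible_tensorPow hL _) s hs x hxn
  rw [deg_tensorPow k hdim hL] at hp
  exact pos_of_mul_pos_right hp (Int.natCast_nonneg _)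

/-- Riemann-Roch vanishing for degree at least `2g - 1`. -/
theorem h1_vanish_of_deg_ge [IsAlgClosed k] (hdim : topologicalKrullDim X = 1) {L : X.Modules}
    (hL : PicF.IsInvertible L) (hdeg : 2 * (Curv2.genus k X : ℤ) - 1 ≤ Curv2.deg k X L 1) :
    Subsingleton (Coh.HH X L 1) := by
  haveI := CurveCohLib.isNoetherian_of_proper (k := k) (X := X)
  have hLc := CurveDeg.isCoh_of_isInvertible hL
  refine CurveCohLib.Nonspecial.h1_of_euler k hdim hLc
    (fun φ hφ => CurveCohLib.Nonspecial.section_of_sub k hLc hL (𝟙 L) φ hφ) ?_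
  unfold Curv2.deg at hdeg
  rw [CurveCohLib.Nonspecial.euler_structure k hdim (CurveCohLib.Clifford.finrank_h0_structure k)] at hdeg
  push_cast at hdeg
  omega

end Groth.Agent.VarAmp
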