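import Groth.Agent.VarAmp.Nakai
import Groth.Agent.Lib.AVProj
import Groth.Agent.FlatMisc.DimConstr
import Groth.Agent.CurveCohLib.GlobGen
import Groth.Agent.ParShLib.ResStalk
import Groth.Agent.SurfInt.Push
import Groth.Agent.VarInt.Closed
import Groth.Agent.S1529

/-! Ampleness from positive self-intersection numbers. -/

noncomputable section

set_option linter.style.haveILetI false
set_option linter.unusedSectionVars false
set_option backward.isDefEq.respectTransparency false
set_option backward.isDefEq.respectTransparency.types false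

universe u

open CategoryTheory CategoryTheory.Limits AlgebraicGeometry TopologicalSpace

attribute [local instance] HasDerivedCategory.standard

namespace Groth.Agent.VarAmp

open Groth.Agent Groth.Agent.H23.PicMul

variable (k : Type u) [Field k] {X : Scheme.{u}} [X.Over (Spec (CommRingCat.of k))]
  [IsProper (X ↘ Spec (CommRingCat.of k))] {L : X.Modules}

local notation "O_" => Coh.structureModule X

include k in
theorem exists_natDim [Nonempty X] : ∃ d : ℕ, topologicalKrullDim X = (d : WithBot ℕ∞) := by
  let f := X ↘ Spec (CommRingCat.of k)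
  obtain ⟨x⟩ := ‹Nonempty X›
  obtain ⟨n, hn⟩ := FlatMisc.DimConstr.exists_dim_le f (f x)
  have huniv : f ⁻¹' {f x} = Set.univ := Set.eq_univ_of_forall fun z => Subsingleton.elim _ _
  rw [((f.fiberHomeo (f x)).trans ((Homeomorph.setCongr huniv).trans
    (Homeomorph.Set.univ X))).isHomeomorph.topologicalKrullDim_eq] at hn
  rcases h : topologicalKrullDim X with _ | _ | d
  · haveI : Nonempty (IrreducibleCloseds X) :=
      ⟨⟨closure {x}, isIrreducible_singleton.closure, isClosed_closure⟩⟩
    exact absurd (Order.krullDim_nonneg (α := IrreducibleCloseds X))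
      (by rw [show Order.krullDim (IrreducibleCloseds X) = topologicalKrullDim X from rfl, h]
          exact not_le_of_gt (WithBot.bot_lt_coe _))
  · rw [h] at hn
    exact absurd hn (not_le_of_gt (WithBot.coe_lt_coe.2 (ENat.coe_lt_top n)))
  · exact ⟨d, rfl⟩

/-- A module trivialised by a positive power has vanishing top self-intersection. -/
theorem mult_eq_zero_of_triv [IsNoetherian X] (hL : PicF.IsInvertible L) {N : ℕ} (hN : 0 < N)
    (h : H23.TrivBasic.Triv (CohB1.tensorPow L N)) {d : ℕ} (hd : 0 < d)
    (hdim : topologicalKrullDim X = (d : WithBot ℕ∞)) : HilbPoly.mult k L d O_ = 0 := by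
  obtain ⟨P, hP, hdeg, hlead⟩ := HilbPoly.exists_poly (HilbPoly.additive_euler k) hL
    QCoh.isCoh_structureModule' (F := O_) (d := d)
    (by rw [support_structureModule, (Homeomorph.Set.univ X).isHomeomorph.topologicalKrullDim_eq, hdim])
  have hcl : PicF.cl L ^ N = 1 := by
    rw [← H23.PicMul.cl_tensorPow, H23.PicMul.one_def]
    exact H23.PicMul.cl_eq_iff.2 h
  have hper : ∀ j : ℕ, (P.comp (Polynomial.C (N : ℚ) * Polynomial.X)).eval (j : ℚ) =
      (Polynomial.C (P.eval 0)).eval (j : ℚ) := fun j => by
    obtain ⟨e⟩ : Nonempty (HilbPoly.pw L O_ (N * j) ≅ HilbPoly.pw L O_ 0) :=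
      H23.PicMul.cl_eq_iff.1 (by
        show PicF.cl (CohB1.tensorMod O_ (CohB1.tensorPow L (N * j))) =
          PicF.cl (CohB1.tensorMod O_ (CohB1.tensorPow L 0))
        rw [H23.PicMul.cl_tensor, H23.PicMul.cl_tensor, H23.PicMul.cl_tensorPow,
          H23.PicMul.cl_tensorPow, pow_mul, hcl, one_pow, pow_zero])
    have h1 := hP (N * j)
    rw [CurveCohLib.euler_congr (k := k) e, hP 0] at h1
    rw [Polynomial.eval_comp, Polynomial.eval_mul, Polynomial.eval_C, Polynomial.eval_X,
      Polynomial.eval_C]
    push_cast at h1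
    exact h1.symm
  have h2 := congrArg Polynomial.natDegree (HilbPoly.poly_ext 0 fun m _ => hper m)
  rw [Polynomial.natDegree_comp, Polynomial.natDegree_C_mul (by exact_mod_cast hN.ne'),
    Polynomial.natDegree_X, mul_one, Polynomial.natDegree_C] at h2
  have h3 : StabCat.alpha d P = 0 := by
    rw [StabCat.alpha, Polynomial.coeff_eq_zero_of_natDegree_lt (by omega), mul_zero]
  rw [hlead] at h3
  exact_mod_cast h3

include k in
/-- The inductive step of the criterion. -/
theorem isAmple_step [IsIntegral X] (hL : PicF.IsInvertible L)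
    (hW : ∀ (Z : Scheme.{u}) (i : Z ⟶ X), IsClosedImmersion i → IsIntegral Z → Set.range i ≠ Set.univ →
      CohB1.IsAmple ((Scheme.Modules.pullback i).obj L))
    {d : ℕ} (hd : 0 < d) (hdim : topologicalKrullDim X = (d : WithBot ℕ∞))
    (hpos : 0 < HilbPoly.mult k L d O_) : CohB1.IsAmple L := by
  haveI := CurveCohLib.isNoetherian_of_proper (k := k) (X := X)
  obtain ⟨N, hN, hgen⟩ := exists_generated (k := k) hW hL hd hdim hpos
  refine AmpleX.isAmple_of_tensorPow hL hN
    (AVAmple.isAmple_of_nontriv (X ↘ Spec (CommRingCat.of k)) (InvX.isInvertible_tensorPow hL N)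
      (fun x => ?_) fun {C} j hj hC htriv => ?_)
  · obtain ⟨t, ht⟩ := hgen x
    refine ⟨t, ?_⟩
    show x ∈ CohB1.genLocus _ (InvX.ofSect t)
    rw [AmpleX.genLocus_eq_locus, InvX.one_ofSect]
    exact ht
  haveI := hj
  haveI := hC
  by_cases hr : Set.range j = Set.univ
  · exfalso
    haveI : Surjective j := ⟨Set.range_eq_univ.1 hr⟩
    haveI := isIso_of_isClosedImmersion_of_surjective j
    exact hpos.ne' (mult_eq_zero_of_triv k hL hN (H23.TrivBasic.triv_of_isIso j htriv) hd hdim)
  haveI : IsProper (j ≫ (X ↘ Spec (CommRingCat.of k))) := inferInstance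
  have h1 : CohB1.IsAmple (Coh.structureModule C) := by
    obtain ⟨e⟩ := htriv
    obtain ⟨e'⟩ := VarInt.nonempty_pullback_tensorPow j L N
    exact AmpleX.isAmple_of_iso (e'.symm ≪≫ e) (AmpleX.isAmple_tensorPow (hW C j hj hC hr) hN)
  haveI := AmpleX.isQuasiAffine_of_isAmple h1
  exact AVProj.finite_of_isProper_quasiAffine (j ≫ (X ↘ Spec (CommRingCat.of k)))

theorem support_quotMod_eq (Z : X.IdealSheafData) :
    CohB1.support (ClSub.quotMod Z) = (Z.support : Set X) := by
  refine Set.Subset.antisymm (fun x hx => ?_) fun x hx => CurveCohLib.GlobGen.nontrivial_stalk_quotMod Z hx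
  exact not_not.1 fun h => hx (ParShLib.subsingleton_stalk_quotMod Z h)

/-- Positivity on every integral closed subscheme gives ampleness. -/
theorem isAmple_of_coeff_pos (hL : PicF.IsInvertible L)
    (h : ∀ (Z : X.IdealSheafData) [IsIntegral Z.subscheme] (d : ℕ), 0 < d →
        topologicalKrullDim (Z.support : Set X) = d →
        ∀ P : MvPolynomial (Fin d) ℚ,
          (∀ n : Fin d → ℕ, (Curv2.euler k X (Curv2.tensorPows (ClSub.quotMod Z) d (fun _ => L) n) : ℚ) =
            MvPolynomial.eval (fun i => (n i : ℚ)) P) →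
          0 < MvPolynomial.coeff (VarInt.ones d) P) :
    CohB1.IsAmple L := by
  haveI := CurveCohLib.isNoetherian_of_proper (k := k) (X := X)
  refine isAmple_of_integral k hL fun Z i hi hZ => ?_
  suffices H : ∀ (C : Closeds X) (Z : Scheme.{u}) (i : Z ⟶ X), IsClosedImmersion i → IsIntegral Z →
      Set.range i = (C : Set X) → CohB1.IsAmple ((Scheme.Modules.pullback i).obj L) from
    H ⟨Set.range i, i.isClosedEmbedding.isClosed_range⟩ Z i hi hZ rfl
  intro C
  induction C using WellFoundedLT.induction with
  | ind C IH =>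
    intro Z i hi hZ hrange
    haveI := hi
    haveI := hZ
    letI : Z.Over (Spec (CommRingCat.of k)) := ⟨i ≫ (X ↘ Spec (CommRingCat.of k))⟩
    haveI : IsProper (Z ↘ Spec (CommRingCat.of k)) :=
      (inferInstance : IsProper (i ≫ (X ↘ Spec (CommRingCat.of k))))
    obtain ⟨d, hdim⟩ := exists_natDim k (X := Z)
    haveI : IsLocallyNoetherian Z := LocallyOfFiniteType.isLocallyNoetherian i
    have hinv := PicClLib.isInvertible_pullback i hL
    rcases Nat.eq_zero_or_pos d with rfl | hd
    · haveI := (S1529.result k Z (by rw [hdim]; rfl)).1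
      exact AmpleX.isAmple_of_isQuasiAffine hinv
    refine isAmple_step k hinv (fun W i' hi' hW hne => ?_) hd hdim ?_
    · haveI := hi'
      have hsub : Set.range (i' ≫ i) ⊂ (C : Set X) := by
        rw [← hrange, Scheme.Hom.comp_base, TopCat.coe_comp, Set.range_comp]
        exact Set.ssubset_iff_subset_ne.2 ⟨Set.image_subset_range _ _,
          fun he => hne (i.isClosedEmbedding.injective.image_injective (he.trans Set.image_univ.symm))⟩
      exact AmpleX.isAmple_of_iso ((Scheme.Modules.pullbackComp i' i).app L).symm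
        (IH ⟨_, (i' ≫ i).isClosedEmbedding.isClosed_range⟩ (SetLike.coe_ssubset_coe.1 hsub)
          W (i' ≫ i) inferInstance hW rfl)
    · have hsupp : (i.ker.support : Set X) = Set.range i := by
        rw [Scheme.Hom.support_ker, i.isClosedEmbedding.isClosed_range.closure_eq]
      have hkd : topologicalKrullDim ↥(i.ker.support : Set X) = (d : WithBot ℕ∞) := by
        rw [hsupp, ← i.isClosedEmbedding.isEmbedding.toHomeomorph.isHomeomorph.topologicalKrullDim_eq, hdim]
      obtain ⟨eZ, -⟩ := SurfInt.exists_iso_subscheme i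
      haveI : Nonempty i.ker.subscheme := Nonempty.map eZ.hom inferInstance
      haveI : IsIntegral i.ker.subscheme := isIntegral_of_isOpenImmersion eZ.inv
      have hM : Coh.IsCoh (ClSub.quotMod i.ker) := ParShLib.isCoh_quotMod i.ker
      have hMd : topologicalKrullDim ↥(CohB1.support (ClSub.quotMod i.ker)) ≤ (d : WithBot ℕ∞) := by
        rw [support_quotMod_eq, hkd]
      obtain ⟨P, -, hP⟩ := Snapper.exists_mpoly k (L := fun _ : Fin d => L) (fun _ => hL) hM hMd
      have hpos := h i.ker d hd hkd P hP
      have hZd : topologicalKrullDim ↥(CohB1.support (Coh.structureModule Z)) ≤ (d : WithBot ℕ∞) := by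
        rw [support_structureModule, (Homeomorph.Set.univ Z).isHomeomorph.topologicalKrullDim_eq, hdim]
      have hP' : ∀ n : Fin d → ℕ, (Curv2.euler k Z (Curv2.tensorPows (Coh.structureModule Z) d
          (fun _ => (Scheme.Modules.pullback i).obj L) n) : ℚ) =
          MvPolynomial.eval (fun j => (n j : ℚ)) P := fun n => by
        rw [← hP n, CurveCohLib.euler_congr (k := k)
          (Snapper.tensorPows_congr (fun _ : Fin d => L) n (SurfInt.nonempty_quotMod_iso i).some).some]
        exact_mod_cast (VarInt.euler_push_tensorPows k i rfl QCoh.isQCoh_structureModule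
          (L := fun _ : Fin d => L) (fun _ => hL) n).symm
      rw [coeff_ones_eq_mult k hinv QCoh.isCoh_structureModule' hZd hP'] at hpos
      exact_mod_cast hpos

end Groth.Agent.VarAmp
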