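import Groth.Agent.VarInt.PolyTop
import Groth.Agent.Snapper.Multi
import Groth.Agent.HilbPoly.Pos
import Groth.Agent.H23.PicMul
import Groth.Agent.S0051
import Mathlib.Data.Nat.Choose.Sum

/-! Positivity of self-intersection numbers of ample modules, asymptotic Riemann-Roch. -/

noncomputable section

set_option linter.style.haveILetI false
set_option linter.unusedSectionVars false
set_option backward.isDefEq.respectTransparency false
set_option backward.isDefEq.respectTransparency.types false

universe u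

open CategoryTheory CategoryTheory.Limits AlgebraicGeometry TopologicalSpace

attribute [local instance] HasDerivedCategory.standard

namespace Groth.Agent.VarAmp

open Groth.Agent
open scoped Groth.Agent.H23.PicMul

variable {X : Scheme.{u}}

theorem nonempty_tensorPows_const (L M : X.Modules) : ∀ {r : ℕ} (n : Fin r → ℕ),
    Nonempty (Curv2.tensorPows M r (fun _ => L) n ≅ HilbPoly.pw L M (∑ i, n i))
  | 0, n => by
    rw [Finset.univ_eq_empty, Finset.sum_empty]
    exact ⟨(H23.PicMul.unit M).some.symm⟩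
  | r + 1, n => by
    refine H23.PicMul.cl_eq_iff.1 ?_
    show PicF.cl (CohB1.tensorMod (Curv2.tensorPows M r (fun _ => L) fun i => n i.castSucc)
      (CohB1.tensorPow L (n (Fin.last r)))) = _
    rw [H23.PicMul.cl_tensor, H23.PicMul.cl_eq_iff.2 (nonempty_tensorPows_const L M fun i => n i.castSucc),
      H23.PicMul.cl_tensor, H23.PicMul.cl_tensor, H23.PicMul.cl_tensorPow, H23.PicMul.cl_tensorPow,
      H23.PicMul.cl_tensorPow, mul_assoc, ← pow_add, ← Fin.sum_univ_castSucc]

variable (k : Type u) [Field k] [X.Over (Spec (CommRingCat.of k))]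
  [IsProper (X ↘ Spec (CommRingCat.of k))]

/-- The coefficient of the product of the variables is the top difference. -/
theorem coeff_ones_eq_mult {L : X.Modules} (hL : PicF.IsInvertible L) {M : X.Modules} (hM : Coh.IsCoh M)
    {d : ℕ} (hd : topologicalKrullDim ↥(CohB1.support M) ≤ (d : WithBot ℕ∞)) {P : MvPolynomial (Fin d) ℚ}
    (hP : ∀ n : Fin d → ℕ, (Curv2.euler k X (Curv2.tensorPows M d (fun _ => L) n) : ℚ) =
      MvPolynomial.eval (fun i => (n i : ℚ)) P) :
    MvPolynomial.coeff (VarInt.ones d) P = (HilbPoly.mult k L d M : ℚ) := by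
  haveI := CurveCohLib.isNoetherian_of_proper (k := k) (X := X)
  obtain ⟨P', hP', hP'n⟩ := Snapper.exists_mpoly k (L := fun _ : Fin d => L) (fun _ => hL) hM hd
  obtain rfl : P = P' := VarInt.eq_of_eval_natCast fun n => (hP n).symm.trans (hP'n n)
  rw [VarInt.coeff_ones_eq_sum (Snapper.degLt_of_totalDegree (Nat.lt_succ_of_le hP'))]
  let g : ℕ → ℤ := fun m => Curv2.euler k X (HilbPoly.pw L M m)
  have hev : ∀ S : Finset (Fin d),
      MvPolynomial.eval (fun i => if i ∈ S then (1 : ℚ) else 0) P = (g S.card : ℚ) := fun S => by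
    have h := hP fun i => if i ∈ S then 1 else 0
    rw [CurveCohLib.euler_congr (k := k) (nonempty_tensorPows_const L M _).some] at h
    rw [show (∑ i, if i ∈ S then 1 else 0 : ℕ) = S.card by simp] at h
    rw [show (g S.card : ℚ) = _ from h]
    exact congrArg (fun v => MvPolynomial.eval v P) (funext fun i => by split_ifs <;> simp)
  have hmult : HilbPoly.mult k L d M =
      ∑ j ∈ Finset.range (d + 1), ((-1 : ℤ) ^ (d - j) * d.choose j) • g j := by
    have h1 := HilbPoly.iterD_replicate_pw (HilbPoly.additive_euler k) hL M d 0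
    rw [fwdDiff_iter_eq_sum_shift] at h1
    have h2 := (HilbPoly.additive_lead (HilbPoly.additive_euler k) hL d).iso (HilbPoly.pw L M 0) M
      ⟨(H23.PicMul.unit M).some⟩
    simp only [zero_add, smul_eq_mul, mul_one] at h1
    exact h2.symm.trans h1
  rw [hmult, Finset.sum_congr rfl fun S _ => by rw [hev S, Finset.card_univ_sdiff, Fintype.card_fin],
    Finset.sum_powerset_apply_card (fun j => (-1 : ℚ) ^ (d - j) * (g j : ℚ)), Finset.card_univ,
    Fintype.card_fin]
  push_cast
  refine Finset.sum_congr rfl fun j _ => ?_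
  rw [smul_eq_mul, nsmul_eq_mul]
  push_cast
  ring

/-- Self-intersection numbers of ample modules are positive. -/
theorem coeff_ones_pos {L : X.Modules} (hL : CohB1.IsAmple L) {M : X.Modules} (hM : Coh.IsCoh M)
    {d : ℕ} (hd : topologicalKrullDim ↥(CohB1.support M) = (d : WithBot ℕ∞)) {P : MvPolynomial (Fin d) ℚ}
    (hP : ∀ n : Fin d → ℕ, (Curv2.euler k X (Curv2.tensorPows M d (fun _ => L) n) : ℚ) =
      MvPolynomial.eval (fun i => (n i : ℚ)) P) :
    0 < MvPolynomial.coeff (VarInt.ones d) P := by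
  rw [coeff_ones_eq_mult k hL.1 hM hd.le hP]
  exact_mod_cast (HilbPoly.mult_nonneg_and_pos k hL d M hM hd.le).2 hd

theorem support_structureModule : CohB1.support (Coh.structureModule X) = Set.univ :=
  Set.eq_univ_of_forall fun x => not_subsingleton_iff_nontrivial.2
    (KFlatLib.stalkUnitEquiv (X := X) x).symm.toEquiv.nontrivial

/-- Asymptotic Riemann-Roch. -/
theorem asymptotic (d : ℕ) (hX : topologicalKrullDim X = d) {L : X.Modules} (hL : CohB1.IsAmple L)
    {P : MvPolynomial (Fin d) ℚ}
    (hP : ∀ n : Fin d → ℕ, (Curv2.euler k X (Curv2.tensorPows (Coh.structureModule X) d (fun _ => L) n) : ℚ) =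
      MvPolynomial.eval (fun i => (n i : ℚ)) P) :
    0 < MvPolynomial.coeff (VarInt.ones d) P ∧
      ∃ C : ℚ, ∀ n : ℕ,
        |(Module.finrank k (Coh.HH X (CohB1.tensorPow L n) 0) : ℚ) -
            MvPolynomial.coeff (VarInt.ones d) P / (d.factorial : ℚ) * (n : ℚ) ^ d| ≤
          C * ((n : ℚ) + 1) ^ (d - 1) := by
  haveI := CurveCohLib.isNoetherian_of_proper (k := k) (X := X)
  have hO := QCoh.isCoh_structureModule' (X := X)
  have hd : topologicalKrullDim ↥(CohB1.support (Coh.structureModule X)) = (d : WithBot ℕ∞) := by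
    rw [support_structureModule, (Homeomorph.Set.univ X).isHomeomorph.topologicalKrullDim_eq, hX]
  refine ⟨coeff_ones_pos k hL hO hd hP, ?_⟩
  obtain ⟨Q, hQ, hQd, hQa⟩ := HilbPoly.exists_poly (HilbPoly.additive_euler k) hL.1 hO hd.le
  obtain ⟨n₀, hn₀⟩ := (S0051.result k X (X ↘ Spec (CommRingCat.of k)) L hL.1).1 hL _ hO
  rw [coeff_ones_eq_mult k hL.1 hO hd.le hP, show (HilbPoly.mult k L d (Coh.structureModule X) : ℚ) =
    StabCat.alpha d Q from hQa.symm, StabCat.alpha, mul_div_cancel_left₀ _
      (show (d.factorial : ℚ) ≠ 0 by exact_mod_cast d.factorial_ne_zero)]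
  let h : ℕ → ℚ := fun n => (Module.finrank k (Coh.HH X (CohB1.tensorPow L n) 0) : ℚ) - Q.coeff d * (n : ℚ) ^ d
  let A : ℚ := ∑ j ∈ Finset.range d, |Q.coeff j|
  refine ⟨A + ∑ n ∈ Finset.range n₀, |h n|, fun n => ?_⟩
  show |h n| ≤ _
  have h1 : (1 : ℚ) ≤ ((n : ℚ) + 1) ^ (d - 1) := one_le_pow₀ (by linarith [(n.cast_nonneg : (0 : ℚ) ≤ n)])
  have hA : 0 ≤ A := Finset.sum_nonneg fun j _ => abs_nonneg _
  have hB : 0 ≤ ∑ n ∈ Finset.range n₀, |h n| := Finset.sum_nonneg fun j _ => abs_nonneg _
  rcases lt_or_ge n n₀ with hn | hn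
  · refine le_trans ?_ (le_mul_of_one_le_right (add_nonneg hA hB) h1)
    exact le_add_of_nonneg_of_le hA (Finset.single_le_sum (f := fun n => |h n|)
      (fun j _ => abs_nonneg _) (Finset.mem_range.2 hn))
  · have heu : (Curv2.euler k X (HilbPoly.pw L (Coh.structureModule X) n) : ℚ) =
        (Module.finrank k (Coh.HH X (CohB1.tensorPow L n) 0) : ℚ) := by
      rw [Curv2.euler, finsum_eq_single _ 0 fun i hi => ?_]
      · rw [pow_zero, one_mul, Int.cast_natCast,
          show Module.finrank k (Coh.HH X (HilbPoly.pw L (Coh.structureModule X) n) 0) =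
            Module.finrank k (Coh.HH X (CohB1.tensorPow L n) 0) from
          (CurveCohLib.hhEquiv (k := k) (CurveTensor.structureTensorIso (CohB1.tensorPow L n)) 0).finrank_eq]
      · haveI : Subsingleton (Coh.HH X (HilbPoly.pw L (Coh.structureModule X) n) i) :=
          hn₀ n hn i (Nat.pos_of_ne_zero hi)
        rw [Module.finrank_zero_of_subsingleton]
        simp
    have hh : h n = ∑ j ∈ Finset.range d, Q.coeff j * (n : ℚ) ^ j := by
      simp only [h, ← heu, hQ n]
      rw [Polynomial.eval_eq_sum_range' (Nat.lt_succ_of_le hQd), Finset.sum_range_succ, add_sub_cancel_right]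
    rw [hh]
    refine (Finset.abs_sum_le_sum_abs _ _).trans (le_trans ?_
      (mul_le_mul_of_nonneg_right (le_add_of_nonneg_right hB) (le_trans zero_le_one h1)))
    rw [Finset.sum_mul]
    refine Finset.sum_le_sum fun j hj => ?_
    rw [abs_mul, abs_pow, Nat.abs_cast]
    refine mul_le_mul_of_nonneg_left ?_ (abs_nonneg _)
    exact (pow_le_pow_left₀ n.cast_nonneg (by linarith) j).trans
      (pow_le_pow_right₀ (by linarith [(n.cast_nonneg : (0 : ℚ) ≤ n)])
        (by have := Finset.mem_range.1 hj; omega))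

end Groth.Agent.VarAmp
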