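import Groth.Agent.S0027
import Groth.Agent.S0051
import Groth.Agent.VarInt.Closed
import Groth.Agent.AmpleVan.Pull
import Groth.Agent.QCoh.HHExact
import Groth.Agent.Lib.CurveTensor

/-! Ampleness is tested on integral closed subschemes. -/

noncomputable section

set_option linter.style.haveILetI false
set_option linter.unusedSectionVars false
set_option backward.isDefEq.respectTransparency false
set_option backward.isDefEq.respectTransparency.types false

universe u

open CategoryTheory CategoryTheory.Limits AlgebraicGeometry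

namespace Groth.Agent.VarAmp

open Groth.Agent

variable (k : Type u) [Field k] {X : Scheme.{u}} [X.Over (Spec (CommRingCat.of k))]
  [IsProper (X ↘ Spec (CommRingCat.of k))] {L : X.Modules}

/-- Eventual vanishing of the higher cohomology of the twists. -/
def Van (L M : X.Modules) : Prop :=
  ∃ n₀ : ℕ, ∀ n : ℕ, n₀ ≤ n → ∀ p : ℕ, 0 < p →
    Subsingleton (Coh.HH X (CohB1.tensorMod M (CohB1.tensorPow L n)) p)

include k in
theorem van_of_iso {M N : X.Modules} (e : M ≅ N) (h : Van L M) : Van L N := by
  obtain ⟨n₀, hn₀⟩ := h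
  refine ⟨n₀, fun n hn p hp => ?_⟩
  haveI := hn₀ n hn p hp
  exact (CurveCohLib.hhEquiv (k := k) (PicGrp.tensorModIso e (Iso.refl (CohB1.tensorPow L n))) p).symm.toEquiv.subsingleton

include k in
theorem van_ext (hL : PicF.IsInvertible L) {S : ShortComplex X.Modules} (hS : S.ShortExact)
    (h1 : Van L S.X₁) (h3 : Van L S.X₃) : Van L S.X₂ := by
  obtain ⟨n₁, hn₁⟩ := h1
  obtain ⟨n₃, hn₃⟩ := h3
  refine ⟨max n₁ n₃, fun n hn p hp => ?_⟩
  have hP : FlatMod.IsFinLocFree (CohB1.tensorPow L n) := fun y =>
    let ⟨W, hy, he⟩ := InvEnd.isFinLocFreeOfRank_one (H23.PicMul.isInvertible_tensorPow hL n) y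
    ⟨W, 1, hy, he⟩
  have hT := CurveTensor.shortExact_tensor hP S.f S.g S.zero hS
  have sw : ∀ M : X.Modules, Subsingleton (Coh.HH X (CohB1.tensorMod M (CohB1.tensorPow L n)) p) →
      Subsingleton (Coh.HH X (CohB1.tensorMod (CohB1.tensorPow L n) M) p) := fun M hM =>
    @Equiv.subsingleton _ _ (CurveCohLib.hhEquiv (k := k) (CurveTensor.commIso (CohB1.tensorPow L n) M) p).toEquiv hM
  have h2 := QCoh.subsingleton_HH_X₂ hT p
    (sw S.X₁ (hn₁ n ((le_max_left _ _).trans hn) p hp))
    (sw S.X₃ (hn₃ n ((le_max_right _ _).trans hn) p hp))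
  exact @Equiv.subsingleton _ _ (CurveCohLib.hhEquiv (k := k) (CurveTensor.commIso S.X₂ (CohB1.tensorPow L n)) p).toEquiv h2

include k in
/-- Vanishing for modules pushed forward from a closed subscheme on which `L` is ample. -/
theorem van_push (hL : PicF.IsInvertible L) {Z : Scheme.{u}} (i : Z ⟶ X) [IsClosedImmersion i]
    (hamp : CohB1.IsAmple ((Scheme.Modules.pullback i).obj L)) {I : Z.Modules} (hI : Coh.IsCoh I) :
    Van L ((Coh.push i).obj I) := by
  letI : Z.Over (Spec (CommRingCat.of k)) := ⟨i ≫ (X ↘ Spec (CommRingCat.of k))⟩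
  haveI : IsProper (Z ↘ Spec (CommRingCat.of k)) :=
    (inferInstance : IsProper (i ≫ (X ↘ Spec (CommRingCat.of k))))
  obtain ⟨n₀, hn₀⟩ := (S0051.result k Z (Z ↘ Spec (CommRingCat.of k)) _
    (PicClLib.isInvertible_pullback i hL)).1 hamp I hI
  refine ⟨n₀, fun n hn p hp => ?_⟩
  haveI := hn₀ n hn p hp
  have hqc : Coh.IsQCoh (CohB1.tensorMod I (CohB1.tensorPow ((Scheme.Modules.pullback i).obj L) n)) :=
    KFlatLib.isQCoh_tensor hI.1 (ProjUPX.isQCoh_of_isInvertible
      (H23.PicMul.isInvertible_tensorPow (PicClLib.isInvertible_pullback i hL) n))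
  obtain ⟨e⟩ := PnCoh.exists_linearEquiv_push k i rfl hqc p
  haveI := e.symm.toEquiv.subsingleton
  obtain ⟨a⟩ := VarInt.nonempty_push_tensor i I (H23.PicMul.isInvertible_tensorPow hL n)
  obtain ⟨b⟩ := VarInt.nonempty_pullback_tensorPow i L n
  exact (CurveCohLib.hhEquiv (k := k)
    (a ≪≫ (Coh.push i).mapIso (PicGrp.tensorModIso (Iso.refl I) b)) p).toEquiv.subsingleton

include k in
/-- An invertible module is ample if it is ample on every integral closed subscheme. -/
theorem isAmple_of_integral (hL : PicF.IsInvertible L)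
    (h : ∀ (Z : Scheme.{u}) (i : Z ⟶ X), IsClosedImmersion i → IsIntegral Z →
      CohB1.IsAmple ((Scheme.Modules.pullback i).obj L)) : CohB1.IsAmple L := by
  haveI := CurveCohLib.isNoetherian_of_proper (k := k) (X := X)
  refine (S0051.result k X (X ↘ Spec (CommRingCat.of k)) L hL).2 fun M hM => ?_
  rcases isEmpty_or_nonempty X with hX | hX
  · refine ⟨0, fun n _ p _ => ?_⟩
    exact Euler.subsingleton_HH_of_isZero
      (CurveCohLib.isZero_of_subsingleton_stalks fun x => isEmptyElim x) p
  refine S0027.result X (Van L) (fun A B ⟨e⟩ hA => van_of_iso k e hA)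
    (fun S hS _ _ _ h1 h3 => van_ext k hL hS h1 h3) (fun Z i hi hZ I ι hι hI => ?_) M hM
  haveI := hi
  haveI := hι
  haveI : IsLocallyNoetherian Z := LocallyOfFiniteType.isLocallyNoetherian i
  exact van_push k hL i (h Z i hi hZ) (QCoh.isCoh_of_mono ι QCoh.isCoh_structureModule' hI)

include k in
/-- An invertible module is ample iff it is ample on the irreducible components. -/
theorem isAmple_iff_components (hL : PicF.IsInvertible L) :
    CohB1.IsAmple L ↔ ∀ Z : TopologicalSpace.Closeds X, (Z : Set X) ∈ irreducibleComponents X →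
      CohB1.IsAmple ((Scheme.Modules.pullback
        (Scheme.IdealSheafData.vanishingIdeal Z).subschemeι).obj L) := by
  haveI := CurveCohLib.isNoetherian_of_proper (k := k) (X := X)
  constructor
  · intro hamp Z _
    haveI := QuasiCompact.compactSpace_of_compactSpace (Scheme.IdealSheafData.vanishingIdeal Z).subschemeι
    exact AmpleVan.isAmple_pullback_of_isEmbedding _
      (Scheme.IdealSheafData.vanishingIdeal Z).subschemeι.isClosedEmbedding.isEmbedding hamp
  · intro h
    refine isAmple_of_integral k hL fun Z i _ _ => ?_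
    obtain ⟨C, hC, hsub⟩ := exists_mem_irreducibleComponents_subset_of_isIrreducible (Set.range i)
      (by rw [← Set.image_univ]; exact (IrreducibleSpace.isIrreducible_univ Z).image _ i.continuous.continuousOn)
    let C' : TopologicalSpace.Closeds X := ⟨C, isClosed_of_mem_irreducibleComponents C hC⟩
    obtain ⟨g, hg⟩ := H23.RedSub.exists_lift_closed i (Scheme.IdealSheafData.vanishingIdeal C').subschemeι
      (by rw [H23.RedSub.range_vanishingIdeal]; exact hsub)
    haveI : IsClosedImmersion (g ≫ (Scheme.IdealSheafData.vanishingIdeal C').subschemeι) := by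
      rw [hg]; infer_instance
    haveI : IsClosedImmersion g :=
      IsClosedImmersion.of_comp g (Scheme.IdealSheafData.vanishingIdeal C').subschemeι
    haveI := QuasiCompact.compactSpace_of_compactSpace i
    refine AmpleX.isAmple_of_iso ?_
      (AmpleVan.isAmple_pullback_of_isEmbedding g g.isClosedEmbedding.isEmbedding (h C' hC))
    exact (Scheme.Modules.pullbackComp g (Scheme.IdealSheafData.vanishingIdeal C').subschemeι).app L ≪≫
      (Scheme.Modules.pullbackCongr hg).app L

end Groth.Agent.VarAmp
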