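import Groth.Agent.VarAmp.NakaiMain
import Groth.Agent.VarAmp.Curve
import Groth.Agent.VarInt.Devissage
import Groth.Agent.AmpleX.Proj
import Groth.Agent.S3572

/-! Generated invertible modules and curves on which they are trivial. -/

noncomputable section

set_option linter.style.haveILetI false
set_option linter.unusedSectionVars false
set_option backward.isDefEq.respectTransparency false
set_option backward.isDefEq.respectTransparency.types false

universe u

open CategoryTheory CategoryTheory.Limits AlgebraicGeometry TopologicalSpace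

attribute [local instance] HasDerivedCategory.standard

namespace Groth.Agent.VarAmp

open Groth.Agent Groth.Agent.H23.PicMul

variable (k : Type u) [Field k] {X : Scheme.{u}} [X.Over (Spec (CommRingCat.of k))]
  [IsProper (X ↘ Spec (CommRingCat.of k))] {L : X.Modules}

include k in
/-- A globally generated invertible module has at each point a section not vanishing there. -/
theorem exists_mem_locus_of_gg (hL : PicF.IsInvertible L) (hgen : Curv2.IsGloballyGenerated L) (x : X) :
    ∃ t : Γ(L, ⊤), x ∈ AmpleX.locus t := by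
  haveI := CurveCohLib.isNoetherian_of_proper (k := k) (X := X)
  obtain ⟨z, hz, hzc⟩ := IsClosed.exists_closed_singleton (isClosed_closure (s := ({x} : Set X)))
    ⟨x, subset_closure rfl⟩
  by_contra! hcon
  let Zc : Closeds X := ⟨{z}, hzc⟩
  let j := (Scheme.IdealSheafData.vanishingIdeal Zc).subschemeι
  haveI : IsReduced (Scheme.IdealSheafData.vanishingIdeal Zc).subscheme :=
    H23.RedSub.isReduced_vanishingIdeal Zc
  have hrange : Set.range j = {z} := H23.RedSub.range_vanishingIdeal Zc
  have hjz : ∀ w, j w = z := fun w => by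
    have h : j w ∈ Set.range j := ⟨w, rfl⟩
    rwa [hrange] at h
  obtain ⟨w, -⟩ : ∃ w, j w = z := by rw [← Set.mem_range, hrange]; rfl
  obtain ⟨ι, q, hq⟩ := hgen
  let π := (Scheme.Modules.pullbackPushforwardAdjunction j).unit.app L
  have hπ : π = 0 := by
    rw [← cancel_epi q, comp_zero]
    refine Sigma.hom_ext (f := fun _ : ι => SheafOfModules.unit X.ringCatSheaf) _ _ fun i => ?_
    rw [comp_zero, ← Category.assoc]
    refine comp_eq_zero_of_notMem j hL
      (Sigma.ι (fun _ : ι => SheafOfModules.unit X.ringCatSheaf) i ≫ q : Coh.structureModule X ⟶ L)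
      (fun v hv => ?_) π
    rw [hjz v, AmpleX.genLocus_eq_locus] at hv
    exact hcon _ ((specializes_iff_mem_closure.2 hz).mem_open (AmpleX.locus _).isOpen hv)
  refine not_isZero_push_pullback j w hL ?_
  haveI : Epi π := inferInstance
  exact (IsZero.iff_id_eq_zero _).2 (by
    rw [← cancel_epi π, comp_zero]
    exact (Category.comp_id π).trans hπ)

/-- An irreducible closed subset of positive dimension contains a curve. -/
theorem exists_point_dim_one {d : ℕ} (hd : 1 ≤ d) : ∀ {ξ : X},
    topologicalKrullDim ↥(closure ({ξ} : Set X)) = (d : WithBot ℕ∞) →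
      ∃ η ∈ closure ({ξ} : Set X), topologicalKrullDim ↥(closure ({η} : Set X)) = 1 := by
  induction d, hd using Nat.le_induction with
  | base => exact fun {ξ} h => ⟨ξ, subset_closure rfl, by exact_mod_cast h⟩
  | succ d hd ih =>
    intro ξ h
    obtain ⟨η, hη, -, hηd⟩ := HilbPoly.exists_point_closure_dim h
    obtain ⟨ζ, hζ, hζ1⟩ := ih hηd
    exact ⟨ζ, isClosed_closure.closure_subset_iff.2 (Set.singleton_subset_iff.2 hη) hζ, hζ1⟩

include k in
/-- An infinite irreducible closed subset contains a curve. -/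
theorem exists_curve_of_infinite {C : Set X} (hC : IsClosed C) (hirr : IsIrreducible C) (hinf : C.Infinite) :
    ∃ η ∈ C, topologicalKrullDim ↥(closure ({η} : Set X)) = 1 := by
  haveI := CurveCohLib.isNoetherian_of_proper (k := k) (X := X)
  obtain ⟨ξ, hξ⟩ := QuasiSober.sober hirr hC
  let W := (VarInt.ptClosure ξ).subscheme
  letI : W.Over (Spec (CommRingCat.of k)) :=
    ⟨(VarInt.ptClosure ξ).subschemeι ≫ (X ↘ Spec (CommRingCat.of k))⟩
  haveI : IsProper (W ↘ Spec (CommRingCat.of k)) :=
    (inferInstance : IsProper ((VarInt.ptClosure ξ).subschemeι ≫ (X ↘ _)))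
  obtain ⟨d, hd⟩ := exists_natDim k (X := W)
  have he := ((VarInt.ptClosure ξ).subschemeι.isClosedEmbedding.isEmbedding.toHomeomorph.trans
    (Homeomorph.setCongr (VarInt.range_ptClosure ξ))).isHomeomorph.topologicalKrullDim_eq
  rw [hd] at he
  rcases Nat.eq_zero_or_pos d with rfl | hd0
  · exfalso
    haveI := (S1529.result k W (by rw [hd]; rfl)).1
    haveI := AVProj.finite_of_isProper_quasiAffine (W ↘ Spec (CommRingCat.of k))
    refine hinf ?_
    rw [← hξ.def, ← VarInt.range_ptClosure ξ]
    exact Set.finite_range _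
  obtain ⟨η, hη, hη1⟩ := exists_point_dim_one hd0 he.symm
  exact ⟨η, hξ.def ▸ hη, hη1⟩

include k in
/-- Ampleness from global generation and ampleness on curves. -/
theorem isAmple_of_curves (hL : PicF.IsInvertible L) (hgen : Curv2.IsGloballyGenerated L)
    (hcurves : ∀ C : X.IdealSheafData, IsIntegral C.subscheme →
      topologicalKrullDim (C.support : Set X) = 1 →
        CohB1.IsAmple ((Scheme.Modules.pullback C.subschemeι).obj L)) : CohB1.IsAmple L := by
  haveI := CurveCohLib.isNoetherian_of_proper (k := k) (X := X)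
  refine AVAmple.isAmple_of_nontriv (X ↘ Spec (CommRingCat.of k)) hL (fun x => ?_)
    fun {C} j hj hC htriv => ?_
  · obtain ⟨t, ht⟩ := exists_mem_locus_of_gg k hL hgen x
    refine ⟨t, ?_⟩
    show x ∈ CohB1.genLocus _ (InvX.ofSect t)
    rw [AmpleX.genLocus_eq_locus, InvX.one_ofSect]
    exact ht
  haveI := hj
  haveI := hC
  by_contra hfin
  have hinf : (Set.range j).Infinite := fun hf => hfin
    (haveI := hf.to_subtype; Finite.of_injective_finite_range (f := j) j.isClosedEmbedding.injective)
  obtain ⟨η, hη, hη1⟩ := exists_curve_of_infinite k j.isClosedEmbedding.isClosed_range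
    (by rw [← Set.image_univ]
        exact (IrreducibleSpace.isIrreducible_univ C).image _ j.continuous.continuousOn) hinf
  let D := VarInt.ptClosure η
  obtain ⟨g, hg⟩ := H23.RedSub.exists_lift_closed D.subschemeι j
    (by rw [VarInt.range_ptClosure]
        exact j.isClosedEmbedding.isClosed_range.closure_subset_iff.2 (Set.singleton_subset_iff.2 hη))
  obtain ⟨e⟩ := ((H23.TrivBasic.triv_congr hg).1
    ((H23.TrivBasic.triv_comp_iff g j).1 (htriv.pullback g)))
  letI : D.subscheme.Over (Spec (CommRingCat.of k)) :=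
    ⟨D.subschemeι ≫ (X ↘ Spec (CommRingCat.of k))⟩
  haveI : IsProper (D.subscheme ↘ Spec (CommRingCat.of k)) :=
    (inferInstance : IsProper (D.subschemeι ≫ (X ↘ _)))
  have hdim : topologicalKrullDim D.subscheme = 1 := by
    rw [(D.subschemeι.isClosedEmbedding.isEmbedding.toHomeomorph.trans
      (Homeomorph.setCongr (VarInt.range_ptClosure η))).isHomeomorph.topologicalKrullDim_eq, hη1]
  have hsupp : topologicalKrullDim (D.support : Set X) = 1 := by
    rw [← D.range_subschemeι, ← D.subschemeι.isClosedEmbedding.isEmbedding.toHomeomorph.isHomeomorph.topologicalKrullDim_eq, hdim]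
  have hdeg := deg_pos_of_isAmple k hdim (AmpleX.isAmple_of_iso e (hcurves D inferInstance hsupp))
  unfold Curv2.deg at hdeg
  simp at hdeg

include k in
/-- The generating locus of a section without curves inside is affine. -/
theorem isAffineOpen_genLocus (hL : PicF.IsInvertible L) (hgen : Curv2.IsGloballyGenerated L)
    (s : Coh.structureModule X ⟶ L)
    (hcurves : ∀ C : X.IdealSheafData, IsIntegral C.subscheme →
      topologicalKrullDim (C.support : Set X) = 1 →
        ¬ ((C.support : Set X) ⊆ (CohB1.genLocus L s : Set X))) :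
    IsAffineOpen (CohB1.genLocus L s) := by
  let f := X ↘ Spec (CommRingCat.of k)
  haveI := CurveCohLib.isNoetherian_of_proper (k := k) (X := X)
  haveI : JacobsonSpace X := LocallyOfFiniteType.jacobsonSpace f
  choose t ht using fun x => exists_mem_locus_of_gg k hL hgen x
  obtain ⟨T, hT⟩ := isCompact_univ.elim_finite_subcover (fun x => (AmpleX.locus (t x) : Set X))
    (fun x => (AmpleX.locus (t x)).isOpen) (fun x _ => Set.mem_iUnion.2 ⟨x, ht x⟩)
  let e : Fin T.card ≃ T := T.equivFin.symm
  let σ : Fin (T.card + 1) → Γ(L, ⊤) := Fin.cons (InvX.one s) fun i => t (e i)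
  have hs : ProjUP.GeneratedBy L σ := AVAmple.generatedBy_of_locus _ fun x => by
    obtain ⟨i, hi⟩ := Set.mem_iUnion.1 (hT (Set.mem_univ x))
    obtain ⟨hiT, hx⟩ := Set.mem_iUnion.1 hi
    refine ⟨(e.symm ⟨i, hiT⟩).succ, ?_⟩
    show x ∈ CohB1.genLocus _ (InvX.ofSect (σ _))
    simp only [AmpleX.genLocus_eq_locus, InvX.one_ofSect, σ, Fin.cons_succ, Equiv.apply_symm_apply]
    exact hx
  obtain ⟨r, hr, τ, hτ⟩ := S3572.result T.card f L hL _ hs
  let n := T.card
  let P := CohB1.ProjSpace n k
  let p := CohB1.ProjSpace.toSpec n k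
  haveI hp : IsProper p := PnCoh.Chow.isProper_toSpec n k
  haveI : IsProper r := by
    haveI : IsProper (r ≫ p) := hr ▸ (inferInstance : IsProper f)
    exact IsProper.of_comp r p
  let 𝒜 := CohB1.polyGrading n k
  let a : MvPolynomial (Fin (n + 1)) k := MvPolynomial.X 0
  have ha : a ∈ 𝒜 1 := MvPolynomial.isHomogeneous_X k 0
  let V : P.Opens := Proj.basicOpen 𝒜 a
  have hV : IsAffineOpen V := Proj.isAffineOpen_basicOpen 𝒜 a ha one_pos
  have hcov : ⨆ i : Fin (n + 1), Proj.basicOpen 𝒜 (MvPolynomial.X i : MvPolynomial (Fin (n + 1)) k) = ⊤ := by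
    refine Proj.iSup_basicOpen_eq_top _ _ ((SegreX.irrelevant_le_span n k).trans ?_)
    exact Ideal.span_mono le_rfl
  have hN : PicF.IsInvertible (Twist.twistProjSpace n k 1) :=
    PnCoh.Finite.isInvertible_twist _ (fun i => MvPolynomial.isHomogeneous_X k i) hcov 1
  have hloc : CohB1.genLocus L s = r ⁻¹ᵁ V := by
    have h1 := AmpleX.genLocus_sec 𝒜 _ (fun i => MvPolynomial.isHomogeneous_X k i) hcov ha
    rw [AmpleX.genLocus_eq_locus, InvX.one_ofSect] at h1
    rw [show V = AmpleX.locus (ProjUPX.sec 𝒜 ha) from h1.symm, ← AmpleX.locus_pullElt hN r,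
      ← AmpleX.locus_iso τ, AmpleX.genLocus_eq_locus]
    exact congrArg AmpleX.locus (hτ 0).symm
  have hfib : ∀ q : P, IsClosed ({q} : Set P) → q ∈ V → (r ⁻¹' {q}).Finite := by
    intro q hq hqV
    by_contra hinf
    have hZ : IsClosed (r ⁻¹' {q}) := hq.preimage r.continuous
    obtain ⟨Y, hY, hYinf⟩ : ∃ Y ∈ irreducibleComponents ↥(r ⁻¹' {q}), (Subtype.val '' Y : Set X).Infinite := by
      by_contra! hc
      refine hinf (((NoetherianSpace.finite_irreducibleComponents (α := ↥(r ⁻¹' {q}))).biUnion
        hc).subset fun z hz => ?_)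
      exact Set.mem_biUnion (irreducibleComponent_mem_irreducibleComponents (⟨z, hz⟩ : ↥(r ⁻¹' {q})))
        ⟨⟨z, hz⟩, mem_irreducibleComponent, rfl⟩
    have hsub : (Subtype.val '' Y : Set X) ⊆ r ⁻¹' {q} := Subtype.coe_image_subset _ Y
    obtain ⟨η, hη, hη1⟩ := exists_curve_of_infinite k
      (hZ.isClosedEmbedding_subtypeVal.isClosedMap _ (isClosed_of_mem_irreducibleComponents _ hY))
      (hY.1.image _ continuous_subtype_val.continuousOn) hYinf
    have hsupp : ((VarInt.ptClosure η).support : Set X) = closure {η} := by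
      rw [← Scheme.IdealSheafData.range_subschemeι, VarInt.range_ptClosure]
    refine hcurves (VarInt.ptClosure η) inferInstance (by rw [hsupp, hη1]) ?_
    rw [hsupp, hloc]
    refine (hZ.closure_subset_iff.2 (Set.singleton_subset_iff.2 (hsub hη))).trans fun y hy => ?_
    show r y ∈ V
    rw [show r y = q from hy]
    exact hqV
  haveI : JacobsonSpace P := LocallyOfFiniteType.jacobsonSpace p
  haveI : JacobsonSpace (r ⁻¹ᵁ V).toScheme := LocallyOfFiniteType.jacobsonSpace ((r ⁻¹ᵁ V).ι ≫ f)
  haveI : IsProper (r ∣_ V) := MorphismProperty.of_isPullback (isPullback_morphismRestrict r V).flip inferInstance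
  haveI : LocallyQuasiFinite (r ∣_ V) := AVAmple.locallyQuasiFinite_of_closed _ fun q hq => by
    have hq' : IsClosed ({V.ι q} : Set P) := mem_closedPoints_iff.1
      ((V.ι.isOpenEmbedding.preimage_closedPoints).ge (mem_closedPoints_iff.2 hq))
    refine ((hfib (V.ι q) hq' q.2).preimage (r ⁻¹ᵁ V).ι.isOpenEmbedding.injective.injOn).subset fun y hy => ?_
    show r ((r ⁻¹ᵁ V).ι y) = V.ι q
    rw [← Scheme.Hom.comp_apply, ← morphismRestrict_ι, Scheme.Hom.comp_apply, show (r ∣_ V) y = q from hy]
  haveI : IsFinite (r ∣_ V) := IsFinite.of_isProper_of_locallyQuasiFinite _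
  haveI : IsAffine V.toScheme := hV
  rw [hloc]
  exact isAffine_of_isAffineHom (r ∣_ V)

end Groth.Agent.VarAmp
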