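import Groth.Agent.VarInt.Pullback
import Groth.Agent.Posit43.Nef
import Groth.Agent.VarAmp.Positive
import Groth.Agent.AmpleVan.Pull
import Groth.Agent.SurfInt.Push

/-! Kleiman's positivity of nef modules on proper schemes. -/

noncomputable section

set_option linter.style.haveILetI false
set_option linter.unusedSectionVars false
set_option backward.isDefEq.respectTransparency false
set_option backward.isDefEq.respectTransparency.types false

universe u

open CategoryTheory CategoryTheory.Limits AlgebraicGeometry TopologicalSpace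

attribute [local instance] HasDerivedCategory.standard

namespace Groth.Agent.VarAmp

open Groth.Agent Groth.Agent.H23.PicMul

variable (k : Type u) [Field k]

/-- The difference of Euler characteristics is the coefficient in one variable. -/
theorem coeff_one {X : Scheme.{u}} [X.Over (Spec (CommRingCat.of k))] [IsProper (X ↘ Spec (CommRingCat.of k))]
    {L : X.Modules} (hL : PicF.IsInvertible L) {M : X.Modules} (hM : Coh.IsCoh M)
    (hd : topologicalKrullDim ↥(CohB1.support M) ≤ ((1 : ℕ) : WithBot ℕ∞)) :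
    ∃ P : MvPolynomial (Fin 1) ℚ,
      (∀ n, Snapper.χs k (fun _ : Fin 1 => L) M n = MvPolynomial.eval (fun i => (n i : ℚ)) P) ∧
      MvPolynomial.coeff (VarInt.ones 1) P =
        ((Curv2.euler k X (CohB1.tensorMod M L) - Curv2.euler k X M : ℤ) : ℚ) := by
  obtain ⟨P, -, hP⟩ := Snapper.exists_mpoly k (L := fun _ : Fin 1 => L) (fun _ => hL) hM hd
  refine ⟨P, hP, ?_⟩
  rw [coeff_ones_eq_mult k hL hM hd hP]
  refine congrArg Int.cast ?_
  show HilbPoly.iterD (List.replicate 1 L) (Curv2.euler k X) M = _
  rfl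

/-- The scheme-theoretic image of an integral scheme. -/
theorem ker_eq_ptClosure {W X : Scheme.{u}} (h : W ⟶ X) [QuasiCompact h] [IsIntegral W] :
    h.ker = VarInt.ptClosure (h (genericPoint W)) := by
  have hrad : h.ker.radical = h.ker := Scheme.IdealSheafData.ext (funext fun U => by
    show (h.ker.ideal U).radical = _
    rw [Scheme.Hom.ker_apply]
    refine (Ideal.IsRadical.radical ?_)
    rintro a ⟨m, hm⟩
    rw [RingHom.mem_ker, map_pow] at hm
    exact RingHom.mem_ker.2 (IsReduced.eq_zero _ ⟨m, hm⟩))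
  rw [← hrad, ← Scheme.IdealSheafData.vanishingIdeal_support]
  refine congrArg _ (Closeds.ext ?_)
  show (h.ker.support : Set X) = closure {h (genericPoint W)}
  rw [Scheme.Hom.support_ker]
  show closure (Set.range h) = _
  refine Set.Subset.antisymm (closure_minimal ?_ isClosed_closure) (closure_mono ?_)
  · rintro _ ⟨z, rfl⟩
    exact specializes_iff_mem_closure.1 ((genericPoint_specializes z).map h.continuous)
  · rintro _ rfl
    exact ⟨_, rfl⟩

/-- Nefness of a pull-back to a proper scheme. -/
theorem nefX_pullback_proper {X Y : Scheme.{u}} [X.Over (Spec (CommRingCat.of k))]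
    [IsProper (X ↘ Spec (CommRingCat.of k))] [Y.Over (Spec (CommRingCat.of k))]
    [IsProper (Y ↘ Spec (CommRingCat.of k))] (f : Y ⟶ X)
    (hf : f ≫ (X ↘ Spec (CommRingCat.of k)) = Y ↘ Spec (CommRingCat.of k))
    {L : X.Modules} (hL : PicF.IsInvertible L)
    (hnef : ∀ C : X.IdealSheafData, IsIntegral C.subscheme →
      topologicalKrullDim (C.support : Set X) = 1 →
        0 ≤ Curv2.euler k X (CohB1.tensorMod (ClSub.quotMod C) L) - Curv2.euler k X (ClSub.quotMod C)) :
    Posit43.NefX k ((Scheme.Modules.pullback f).obj L) := by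
  haveI := CurveCohLib.isNoetherian_of_proper (k := k) (X := X)
  haveI := CurveCohLib.isNoetherian_of_proper (k := k) (X := Y)
  haveI : IsProper f := VarInt.isProper_of_over k f hf
  intro C j _ _ hC
  obtain ⟨e, he⟩ := SurfInt.exists_iso_subscheme j
  haveI : IsIntegral j.ker.subscheme := IsIntegral.of_isIso e.hom
  obtain ⟨q⟩ := SurfInt.nonempty_quotMod_iso j
  have hJ : topologicalKrullDim (j.ker.support : Set Y) = ((1 : ℕ) : WithBot ℕ∞) := by
    rw [Scheme.Hom.support_ker]
    show topologicalKrullDim ↥(closure (Set.range j)) = _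
    rw [j.isClosedEmbedding.isClosed_range.closure_eq]
    exact (IsHomeomorph.topologicalKrullDim_eq _
      (j.isClosedEmbedding.isEmbedding.toHomeomorph.isHomeomorph)).symm.trans hC
  have hLY := PicClLib.isInvertible_pullback f hL
  let J := j.ker
  let W := (J.subschemeι ≫ f).ker
  have hdJ : topologicalKrullDim ↥(CohB1.support (ClSub.quotMod J)) ≤ ((1 : ℕ) : WithBot ℕ∞) :=
    (VarInt.dim_support_quotMod_le J).trans hJ.le
  obtain ⟨PY, hPY, hcY⟩ := coeff_one k hLY (ParShLib.isCoh_quotMod J) hdJ
  let η := genericPoint J.subscheme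
  let w := f (J.subschemeι η)
  have hW : (W.support : Set X) = closure {w} := by
    rw [Scheme.Hom.support_ker]
    show closure (Set.range (J.subschemeι ≫ f)) = _
    refine Set.Subset.antisymm (closure_minimal ?_ isClosed_closure) (closure_mono ?_)
    · rintro _ ⟨z, rfl⟩
      exact specializes_iff_mem_closure.1 ((genericPoint_specializes z).map (J.subschemeι ≫ f).continuous)
    · rintro _ rfl
      exact ⟨η, rfl⟩
  have hdη : topologicalKrullDim ↥(closure ({J.subschemeι η} : Set Y)) = ((1 : ℕ) : WithBot ℕ∞) := by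
    have h : closure ({J.subschemeι η} : Set Y) = (J.support : Set Y) := by
      rw [← Set.image_singleton, J.subschemeι.isClosedEmbedding.closure_image_eq,
        isGenericPoint_def.1 (genericPoint_spec J.subscheme), Set.image_univ, J.range_subschemeι]
    rw [h]; exact hJ
  have hdW : topologicalKrullDim ↥(CohB1.support (ClSub.quotMod W)) ≤ ((1 : ℕ) : WithBot ℕ∞) := by
    refine (VarInt.dim_support_quotMod_le W).trans ?_
    rw [hW, ← hdη, VarDim.topologicalKrullDim_closure_singleton (X ↘ Spec (CommRingCat.of k)),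
      VarDim.topologicalKrullDim_closure_singleton (Y ↘ Spec (CommRingCat.of k))]
    exact WithBot.coe_le_coe.2 (Nat.cast_le.2 (VarDim.deg_map_le f _ hf _))
  obtain ⟨PX, hPX, hcX⟩ := coeff_one k hL (X := X) (ParShLib.isCoh_quotMod W) hdW
  have hpull := VarInt.coeff_pullback k f hf J 1 hJ (fun _ => L) (fun _ => hL) PY PX hPY hPX
  rw [hcY, hcX] at hpull
  have hnn : (0 : ℚ) ≤ ((Curv2.euler k Y (CohB1.tensorMod (ClSub.quotMod J) ((Scheme.Modules.pullback f).obj L)) -
      Curv2.euler k Y (ClSub.quotMod J) : ℤ) : ℚ) := by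
    rw [hpull]
    rcases VarInt.residueDegree_eq_zero_or_dim k f hf (J.subschemeι η) with h0 | hdim
    · rw [CycLib.residueDegree_comp J.subschemeι f]
      show (0 : ℚ) ≤ ((f.residueDegree (J.subschemeι η) * _ : ℕ) : ℚ) * _
      rw [h0, zero_mul, Nat.cast_zero, zero_mul]
    · refine mul_nonneg (Nat.cast_nonneg _) (Int.cast_nonneg_iff.2 (hnef W ?_ ?_))
      · show IsIntegral (J.subschemeι ≫ f).ker.subscheme
        rw [ker_eq_ptClosure]
        infer_instance
      · rw [hW, hdim, hdη]; rfl
  have hnn' := Int.cast_nonneg_iff.1 hnn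
  show 0 ≤ Curv2.euler k Y (CohB1.tensorMod _ _) - Curv2.euler k Y _
  rw [← CurveCohLib.euler_congr q, ← CurveCohLib.euler_congr (PicGrp.tensorModIso q (Iso.refl _))]
  exact hnn'

/-- Kleiman: top self-intersections of nef modules are nonnegative on proper schemes. -/
theorem nonneg_of_nef [IsAlgClosed k] {X : Scheme.{u}} [X.Over (Spec (CommRingCat.of k))]
    [IsProper (X ↘ Spec (CommRingCat.of k))] {L : X.Modules} (hL : PicF.IsInvertible L)
    (hnef : ∀ C : X.IdealSheafData, IsIntegral C.subscheme →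
      topologicalKrullDim (C.support : Set X) = 1 →
        0 ≤ Curv2.euler k X (CohB1.tensorMod (ClSub.quotMod C) L) - Curv2.euler k X (ClSub.quotMod C))
    (Z : X.IdealSheafData) [IsIntegral Z.subscheme] (d : ℕ)
    (hZ : topologicalKrullDim (Z.support : Set X) = d)
    (P : MvPolynomial (Fin d) ℚ)
    (hP : ∀ n, Snapper.χs k (fun _ : Fin d => L) (ClSub.quotMod Z) n = MvPolynomial.eval (fun i => (n i : ℚ)) P) :
    0 ≤ MvPolynomial.coeff (VarInt.ones d) P := by
  haveI := CurveCohLib.isNoetherian_of_proper (k := k) (X := X)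
  let qX := X ↘ Spec (CommRingCat.of k)
  let ι := Z.subschemeι
  haveI : IsProper (ι ≫ qX) := inferInstance
  obtain ⟨N₀, X', π, p, hint, hp, hpf, hπ, U, hU, hiso⟩ := PnCoh.Chow.chow_integral (ι ≫ qX)
  let g : X' ⟶ X := π ≫ ι
  letI : X'.Over (Spec (CommRingCat.of k)) := ⟨g ≫ qX⟩
  haveI : IsProper (X' ↘ Spec (CommRingCat.of k)) := (inferInstance : IsProper (g ≫ qX))
  haveI := CurveCohLib.isNoetherian_of_proper (k := k) (X := X')
  obtain ⟨H, hH⟩ := AmpleVan.exists_ample_of_closedImmersion_projSpace p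
  have hg : g ≫ qX = X' ↘ Spec (CommRingCat.of k) := rfl
  -- the whole of `X'` as an ideal sheaf
  let J : X'.IdealSheafData := (𝟙 X' : X' ⟶ X').ker
  obtain ⟨e, he⟩ := SurfInt.exists_iso_subscheme (𝟙 X')
  haveI : IsIntegral J.subscheme := IsIntegral.of_isIso e.hom
  obtain ⟨q⟩ := SurfInt.nonempty_quotMod_iso (𝟙 X')
  -- the image is `Z`
  let η' := genericPoint J.subscheme
  let η := genericPoint Z.subscheme
  have hηU : η ∈ U := ((genericPoint_spec Z.subscheme).mem_open_set_iff U.2).2
    (by obtain ⟨u⟩ := hU; exact ⟨u.1, trivial, u.2⟩)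
  obtain ⟨x₀, hx₀⟩ : ∃ x₀ : (π ⁻¹ᵁ U).toScheme, (π ∣_ U) x₀ = ⟨η, hηU⟩ :=
    (TopCat.homeoOfIso (asIso (π ∣_ U).base)).surjective _
  have hx₀' : π x₀.1 = η := by
    have h := congrArg Subtype.val hx₀
    rwa [morphismRestrict_base_coe] at h
  let ξ := genericPoint X'
  have hπξ : π ξ = η :=
    ((hx₀' ▸ (genericPoint_specializes x₀.1).map π.continuous : π ξ ⤳ η).antisymm
      (genericPoint_specializes (π ξ))).eq
  have hres : g.residueDegree ξ = 1 := by
    rw [CycLib.residueDegree_comp, CycLib.residueDegree_preimmersion ι, one_mul]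
    have hm : π ξ ∈ U := by rw [hπξ]; exact hηU
    haveI : IsIso (π.stalkMap ξ) := (MorphismProperty.arrow_mk_iso_iff (.isomorphisms _)
      (morphismRestrictStalkMap π U ⟨ξ, hm⟩)).1 ((MorphismProperty.isomorphisms.iff _).2 inferInstance)
    refine CycLib.residueDegree_of_surjective π fun a => ?_
    obtain ⟨a, rfl⟩ := X'.residue_surjective ξ a
    obtain ⟨b, rfl⟩ := (ConcreteCategory.bijective_of_isIso (π.stalkMap ξ)).2 a
    exact ⟨Z.subscheme.residue (π ξ) b, congr($(Scheme.residue_residueFieldMap π ξ) b)⟩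
  have hJξ : J.subschemeι η' = ξ := by
    have hsurj : Set.range J.subschemeι = Set.univ := Set.eq_univ_of_forall fun z =>
      ⟨e.hom z, congrArg (fun φ : X' ⟶ X' => φ z) he⟩
    refine (isGenericPoint_def.2 ?_ : IsGenericPoint _ Set.univ).eq (genericPoint_spec X')
    rw [← Set.image_singleton, J.subschemeι.isClosedEmbedding.closure_image_eq,
      isGenericPoint_def.1 (genericPoint_spec J.subscheme), Set.image_univ, hsurj]
  have hker : (J.subschemeι ≫ g).ker = Z := by
    conv_rhs => rw [← Z.ker_subschemeι, ker_eq_ptClosure]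
    rw [ker_eq_ptClosure]
    refine congrArg VarInt.ptClosure ?_
    show ι (π (J.subschemeι η')) = ι η
    rw [hJξ, hπξ]
  have hZd : topologicalKrullDim Z.subscheme = (d : WithBot ℕ∞) := by
    rw [← hZ, ← Z.range_subschemeι]
    exact IsHomeomorph.topologicalKrullDim_eq _
      (ι.isClosedEmbedding.isEmbedding.toHomeomorph.isHomeomorph)
  -- dimension of `X'`
  have hX'd : topologicalKrullDim X' = (d : WithBot ℕ∞) := by
    have h := (VarInt.residueDegree_eq_zero_or_dim k g hg ξ).resolve_left (by rw [hres]; exact one_ne_zero)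
    rw [isGenericPoint_def.1 (genericPoint_spec X'),
      (Homeomorph.Set.univ X').isHomeomorph.topologicalKrullDim_eq] at h
    rw [← h, ← hZ, ← Z.range_subschemeι]
    refine congrArg (fun S : Set X => topologicalKrullDim S) ?_
    show closure {ι (π ξ)} = Set.range ι
    rw [hπξ, ← Set.image_singleton, ι.isClosedEmbedding.closure_image_eq,
      isGenericPoint_def.1 (genericPoint_spec Z.subscheme), Set.image_univ]
  have hJd : topologicalKrullDim (J.support : Set X') = (d : WithBot ℕ∞) := by
    rw [Scheme.Hom.support_ker]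
    show topologicalKrullDim ↥(closure (Set.range (𝟙 X' : X' ⟶ X'))) = _
    rw [show Set.range (𝟙 X' : X' ⟶ X') = Set.univ from Set.range_id, closure_univ,
      (Homeomorph.Set.univ X').isHomeomorph.topologicalKrullDim_eq, hX'd]
  have hLg := PicClLib.isInvertible_pullback g hL
  have hqd : topologicalKrullDim ↥(CohB1.support (ClSub.quotMod J)) ≤ (d : WithBot ℕ∞) :=
    (VarInt.dim_support_quotMod_le J).trans hJd.le
  obtain ⟨PY, -, hPY⟩ := Snapper.exists_mpoly k (L := fun _ : Fin d => (Scheme.Modules.pullback g).obj L)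
    (fun _ => hLg) (ParShLib.isCoh_quotMod J) hqd
  have hpull := VarInt.coeff_pullback k g hg J d hJd (fun _ => L) (fun _ => hL) PY P hPY (by rw [hker]; exact hP)
  rw [coeff_ones_eq_mult k hLg (ParShLib.isCoh_quotMod J) hqd hPY] at hpull
  have hnn : 0 ≤ HilbPoly.mult k ((Scheme.Modules.pullback g).obj L) d (ClSub.quotMod J) :=
    Posit43.nonnegIn (k := k) d X' H _ hH hLg (nefX_pullback_proper k g hg hL hnef)
      (List.replicate d _) (fun N hN => Or.inl (List.eq_of_mem_replicate hN)) (List.length_replicate ..)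
      _ (ParShLib.isCoh_quotMod J) hqd
  have hdeg : 0 < (J.subschemeι ≫ g).residueDegree η' := by
    rw [CycLib.residueDegree_comp J.subschemeι g, CycLib.residueDegree_preimmersion J.subschemeι, mul_one, hJξ, hres]
    exact one_pos
  exact nonneg_of_mul_nonneg_right (hpull ▸ (Int.cast_nonneg_iff.2 hnn)) (Nat.cast_pos.2 hdeg)

end Groth.Agent.VarAmp
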