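import Groth.Agent.VarAmp.Curve
import Groth.Agent.VarInt.Devissage
import Groth.Agent.AmpleX.QuasiAffine
import Mathlib.AlgebraicGeometry.IdealSheaf.IrreducibleComponent

/-! Ampleness by degrees on the components. -/

noncomputable section

set_option linter.style.haveILetI false
set_option linter.unusedSectionVars false
set_option backward.isDefEq.respectTransparency false
set_option backward.isDefEq.respectTransparency.types false

universe u

open CategoryTheory CategoryTheory.Limits AlgebraicGeometry TopologicalSpace

namespace Groth.Agent.VarAmp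

open Groth.Agent

variable (k : Type u) [Field k] {X : Scheme.{u}} [X.Over (Spec (CommRingCat.of k))]
  [IsProper (X ↘ Spec (CommRingCat.of k))] [IsNoetherian X]

theorem radical_componentIdeal (C : Set X) (hC : C ∈ irreducibleComponents (X : Type u)) :
    (X.irreducibleComponentIdeal C hC).radical =
      Scheme.IdealSheafData.vanishingIdeal (⟨C, isClosed_of_mem_irreducibleComponents C hC⟩ : Closeds X) := by
  rw [← Scheme.IdealSheafData.vanishingIdeal_support]
  rfl

theorem dim_subscheme (Z : Closeds X) :
    topologicalKrullDim (Scheme.IdealSheafData.vanishingIdeal Z).subscheme = topologicalKrullDim ↥(Z : Set X) := by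
  have e := (Scheme.IdealSheafData.vanishingIdeal Z).subschemeι.isClosedEmbedding.isEmbedding.toHomeomorph
  rw [(e.trans (Homeomorph.setCongr (H23.RedSub.range_vanishingIdeal Z))).isHomeomorph.topologicalKrullDim_eq]

theorem isIntegral_vanishingIdeal {Z : Closeds X} (hZ : IsIrreducible (Z : Set X)) :
    IsIntegral (Scheme.IdealSheafData.vanishingIdeal Z).subscheme := by
  obtain ⟨η, hη⟩ := QuasiSober.sober hZ Z.isClosed
  rw [show Z = ⟨closure {η}, isClosed_closure⟩ from Closeds.ext hη.symm]
  exact VarInt.isIntegral_ptClosure η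

theorem isAmple_iff_deg_components (hdim : topologicalKrullDim X ≤ 1) {L : X.Modules}
    (hL : PicF.IsInvertible L) :
    CohB1.IsAmple L ↔ ∀ (C : Set X) (hC : C ∈ irreducibleComponents (X : Type u)),
      topologicalKrullDim C = 1 → 0 < @Curv2.deg k _ (X.irreducibleComponentIdeal C hC).radical.subscheme
        ⟨(X.irreducibleComponentIdeal C hC).radical.subschemeι ≫ (X ↘ (Spec (CommRingCat.of k)))⟩
        ((Scheme.Modules.pullback (X.irreducibleComponentIdeal C hC).radical.subschemeι).obj L) 1 := by
  rw [isAmple_iff_components k hL]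
  constructor
  · intro h C hC hC1
    rw [radical_componentIdeal C hC]
    set Z : Closeds X := ⟨C, isClosed_of_mem_irreducibleComponents C hC⟩
    letI : (Scheme.IdealSheafData.vanishingIdeal Z).subscheme.Over (Spec (CommRingCat.of k)) :=
      ⟨(Scheme.IdealSheafData.vanishingIdeal Z).subschemeι ≫ (X ↘ (Spec (CommRingCat.of k)))⟩
    haveI := isIntegral_vanishingIdeal (Z := Z) hC.1
    haveI : IsProper ((Scheme.IdealSheafData.vanishingIdeal Z).subscheme ↘ Spec (CommRingCat.of k)) :=
      (inferInstance : IsProper ((Scheme.IdealSheafData.vanishingIdeal Z).subschemeι ≫ (X ↘ _)))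
    exact deg_pos_of_isAmple k ((dim_subscheme Z).trans hC1) (h Z hC)
  · intro h Z hZ
    letI : (Scheme.IdealSheafData.vanishingIdeal Z).subscheme.Over (Spec (CommRingCat.of k)) :=
      ⟨(Scheme.IdealSheafData.vanishingIdeal Z).subschemeι ≫ (X ↘ (Spec (CommRingCat.of k)))⟩
    haveI := isIntegral_vanishingIdeal (Z := Z) hZ.1
    haveI : IsProper ((Scheme.IdealSheafData.vanishingIdeal Z).subscheme ↘ Spec (CommRingCat.of k)) :=
      (inferInstance : IsProper ((Scheme.IdealSheafData.vanishingIdeal Z).subschemeι ≫ (X ↘ _)))
    have hinv := PicClLib.isInvertible_pullback (Scheme.IdealSheafData.vanishingIdeal Z).subschemeι hL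
    by_cases h1 : topologicalKrullDim ↥(Z : Set X) = 1
    · refine isAmple_of_deg_pos k ((dim_subscheme Z).trans h1) hinv ?_
      have h' := h (Z : Set X) hZ h1
      rwa [radical_componentIdeal (Z : Set X) hZ] at h'
    · have hle : topologicalKrullDim (Scheme.IdealSheafData.vanishingIdeal Z).subscheme ≤ 0 := by
        rw [dim_subscheme Z]
        have h2 : topologicalKrullDim ↥(Z : Set X) < (((1 : ℕ) : ℕ∞) : WithBot ℕ∞) :=
          lt_of_le_of_ne ((topologicalKrullDim_subspace_le X _).trans hdim) h1
        generalize topologicalKrullDim ↥(Z : Set X) = a at h2 ⊢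
        cases a with
        | bot => exact bot_le
        | coe a =>
          refine WithBot.coe_le_coe.2 (le_of_eq (ENat.lt_one_iff_eq_zero.1 ?_))
          exact_mod_cast WithBot.coe_lt_coe.1 h2
      haveI := (S1529.result k (Scheme.IdealSheafData.vanishingIdeal Z).subscheme hle).1
      exact AmpleX.isAmple_of_isQuasiAffine hinv

end Groth.Agent.VarAmp
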