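import Groth.Agent.VarAmp.Curve
import Groth.Agent.VarAmp.CurveComponents
import Groth.Agent.VarDiv.Point
import Groth.Agent.S1518
import Groth.Agent.InvX.GenLocusPull
import Groth.Agent.Lib.AmpleEmbed
import Mathlib.AlgebraicGeometry.Morphisms.FiniteType

/-! Proper schemes of dimension at most one are projective. -/

noncomputable section

set_option linter.style.haveILetI false
set_option linter.unusedSectionVars false
set_option backward.isDefEq.respectTransparency false
set_option backward.isDefEq.respectTransparency.types false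

universe u

open CategoryTheory CategoryTheory.Limits AlgebraicGeometry TopologicalSpace

namespace Groth.Agent.VarAmp

open Groth.Agent

variable (k : Type u) [Field k] {X : Scheme.{u}} [X.Over (Spec (CommRingCat.of k))]
  [IsProper (X ↘ Spec (CommRingCat.of k))] [IsNoetherian X]

/-- Degree on an integral closed curve. -/
abbrev degOn (L : X.Modules) {Z : Scheme.{u}} (i : Z ⟶ X) : ℤ :=
  @Curv2.deg k _ Z ⟨i ≫ (X ↘ Spec (CommRingCat.of k))⟩ ((Scheme.Modules.pullback i).obj L) 1

theorem stalk_dim_le_one (hdim : topologicalKrullDim X ≤ 1) (x : X) :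
    Ring.KrullDimLE 1 (X.presheaf.stalk x) := by
  rw [Ring.krullDimLE_iff]
  obtain ⟨_, ⟨U, hU, rfl⟩, hxU, -⟩ :=
    X.isBasis_affineOpens.exists_subset_of_mem_open (Set.mem_univ x) isOpen_univ
  letI := X.presheaf.algebra_section_stalk ⟨x, hxU⟩
  haveI := hU.isLocalization_stalk ⟨x, hxU⟩
  have h1 : ringKrullDim (X.presheaf.stalk x) ≤ ringKrullDim Γ(X, U) := by
    rw [IsLocalization.AtPrime.ringKrullDim_eq_height (hU.primeIdealOf ⟨x, hxU⟩).asIdeal (X.presheaf.stalk x)]
    exact Ideal.height_le_ringKrullDim_of_ne_top (hU.primeIdealOf ⟨x, hxU⟩).isPrime.ne_top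
  refine h1.trans (le_trans ?_ hdim)
  rw [← PrimeSpectrum.topologicalKrullDim_eq_ringKrullDim]
  exact hU.fromSpec.isOpenEmbedding.isInducing.topologicalKrullDim_le

/-- An invertible module with nonnegative degree on every curve, positive on those through a given point. -/
theorem exists_point_module (hdim : topologicalKrullDim X ≤ 1) {x : X} (hx : IsClosed ({x} : Set X))
    (hass : ¬ Curv2.IsAssPoint (Coh.structureModule X) x) :
    ∃ L : X.Modules, PicF.IsInvertible L ∧ ∀ (Z : Scheme.{u}) (i : Z ⟶ X) [IsClosedImmersion i] [IsIntegral Z],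
      topologicalKrullDim Z = 1 → 0 ≤ degOn k L i ∧ (x ∈ Set.range i → 0 < degOn k L i) := by
  obtain ⟨t, ht, htu⟩ := VarDiv.exists_regular_nonunit hass
  obtain ⟨L, s, hL, hs⟩ := VarDiv.exists_invertible_point hx (stalk_dim_le_one hdim x) ht htu
  refine ⟨L, hL, fun Z i _ _ hZ => ?_⟩
  letI : Z.Over (Spec (CommRingCat.of k)) := ⟨i ≫ (X ↘ Spec (CommRingCat.of k))⟩
  haveI : IsProper (Z ↘ Spec (CommRingCat.of k)) :=
    (inferInstance : IsProper (i ≫ (X ↘ Spec (CommRingCat.of k))))
  obtain ⟨e⟩ := PicClLib.nonempty_pullback_structureModule i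
  let σ := e.symm.hom ≫ (Scheme.Modules.pullback i).map s
  have hloc : CohB1.genLocus ((Scheme.Modules.pullback i).obj L) σ = i ⁻¹ᵁ CohB1.genLocus L s :=
    InvX.genLocus_pullback i hL s e.symm
  have hgen : genericPoint Z ∈ CohB1.genLocus ((Scheme.Modules.pullback i).obj L) σ := by
    rw [hloc]
    show i (genericPoint Z) ∈ (CohB1.genLocus L s : Set X)
    rw [hs]
    intro hxz
    have hcl : closure ({genericPoint Z} : Set Z) = Set.univ := genericPoint_spec Z
    have hsub : Set.range i ⊆ {x} := by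
      rw [← Set.image_univ, ← hcl]
      refine (image_closure_subset_closure_image i.continuous).trans ?_
      rw [Set.image_singleton, Set.mem_singleton_iff.1 hxz, hx.closure_eq]
    haveI : Subsingleton Z := ⟨fun a b => i.isClosedEmbedding.injective
      ((hsub ⟨a, rfl⟩).trans (hsub ⟨b, rfl⟩).symm)⟩
    have h0 : topologicalKrullDim Z ≤ 0 := H23.TopDim.dim_le fun p => by
      rcases Nat.eq_zero_or_pos p.length with h0 | h0
      · simp [h0]
      have hlt := p.strictMono (show (⟨0, by omega⟩ : Fin (p.length + 1)) < ⟨1, by omega⟩ from Nat.zero_lt_one)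
      obtain ⟨a, ha⟩ := (p ⟨0, by omega⟩).isIrreducible.nonempty
      obtain ⟨b, -, hab⟩ := Set.exists_of_ssubset (SetLike.coe_ssubset_coe.2 hlt)
      exact absurd (Subsingleton.elim a b ▸ ha) hab
    rw [hZ] at h0
    exact absurd h0 (by decide)
  have hσ : σ ≠ 0 := ne_zero_of_mem_genLocus hgen
  have hinv := PicClLib.isInvertible_pullback i hL
  refine ⟨S1518.result k Z hZ _ hinv σ hσ, ?_⟩
  rintro ⟨z, rfl⟩
  refine S1519.result k Z hZ _ hinv σ hσ z fun hz => ?_
  rw [hloc] at hz
  have hz' : i z ∈ (CohB1.genLocus L s : Set X) := hz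
  rw [hs] at hz'
  exact hz' rfl

theorem degOn_tensor {L M : X.Modules} (hL : PicF.IsInvertible L) (hM : PicF.IsInvertible M)
    {Z : Scheme.{u}} (i : Z ⟶ X) [IsClosedImmersion i] [IsIntegral Z] (hZ : topologicalKrullDim Z = 1) :
    degOn k (CohB1.tensorMod L M) i = degOn k L i + degOn k M i := by
  letI : Z.Over (Spec (CommRingCat.of k)) := ⟨i ≫ (X ↘ Spec (CommRingCat.of k))⟩
  haveI : IsProper (Z ↘ Spec (CommRingCat.of k)) :=
    (inferInstance : IsProper (i ≫ (X ↘ Spec (CommRingCat.of k))))
  obtain ⟨p⟩ := H23.PicMul.pull i L M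
  show Curv2.deg k Z _ 1 = _
  rw [CurveRR.deg_congr k p 1]
  exact CurveRR.deg_tensor k hZ (PicClLib.isInvertible_pullback i hL) (PicClLib.isInvertible_pullback i hM)

include k in
/-- Points on all one-dimensional components, none of them associated. -/
theorem exists_point_in (hdim : topologicalKrullDim X ≤ 1) {C : Set X} (hC : IsClosed C)
    (hC1 : ¬ topologicalKrullDim ↥C ≤ 0) :
    ∃ x ∈ C, IsClosed ({x} : Set X) ∧ ¬ Curv2.IsAssPoint (Coh.structureModule X) x := by
  haveI : JacobsonSpace X := LocallyOfFiniteType.jacobsonSpace (X ↘ Spec (CommRingCat.of k))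
  have hfin := AssPtX.finite_assPoints (F := Coh.structureModule X) QCoh.isCoh_structureModule'
    (U := (⊤ : X.Opens)) isCompact_univ
  by_contra! hc
  have hT : (C ∩ closedPoints X).Finite :=
    hfin.subset fun y hy => ⟨trivial, hc y hy.1 hy.2⟩
  have hTc : IsClosed (C ∩ closedPoints X) := by
    rw [← Set.biUnion_of_singleton (C ∩ closedPoints X)]
    exact hT.isClosed_biUnion fun y hy => hy.2
  have hCeq : C = C ∩ closedPoints X := by
    conv_lhs => rw [← closure_inter_closedPoints hC]
    rw [hTc.closure_eq]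
  refine hC1 (H23.TopDim.dim_le fun p => ?_)
  rcases Nat.eq_zero_or_pos p.length with h0 | h0
  · simp [h0]
  exfalso
  have hlt := p.strictMono (show (⟨0, by omega⟩ : Fin (p.length + 1)) < ⟨1, by omega⟩ from Nat.zero_lt_one)
  haveI : Finite ↥C := (hT.subset hCeq.le).to_subtype
  haveI : DiscreteTopology ↥C := by
    haveI : T1Space ↥C := ⟨fun y => by
      have hy : IsClosed ({y.1} : Set X) := (hCeq.le y.2).2
      convert hy.preimage continuous_subtype_val
      ext z
      exact Subtype.ext_iff⟩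
    infer_instance
  obtain ⟨a, ha⟩ := (p ⟨0, by omega⟩).isIrreducible.nonempty
  obtain ⟨b, hb, hab⟩ := Set.exists_of_ssubset (SetLike.coe_ssubset_coe.2 hlt)
  obtain ⟨z, -, hz1, hz2⟩ := (p ⟨1, by omega⟩).isIrreducible.2 {a} {b} (isOpen_discrete _) (isOpen_discrete _)
    ⟨a, SetLike.coe_subset_coe.2 hlt.le ha, rfl⟩ ⟨b, hb, rfl⟩
  exact hab ((hz2.symm.trans hz1) ▸ ha)

theorem degOn_one {Z : Scheme.{u}} (i : Z ⟶ X) : degOn k (Coh.structureModule X) i = 0 := by
  letI : Z.Over (Spec (CommRingCat.of k)) := ⟨i ≫ (X ↘ Spec (CommRingCat.of k))⟩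
  show Curv2.deg k Z _ 1 = 0
  unfold Curv2.deg
  rw [CurveCohLib.euler_congr (k := k) (CurveBC.unitIso i)]
  simp

include k in
/-- A proper scheme of dimension at most one has an ample invertible module. -/
theorem exists_isAmple (hdim : topologicalKrullDim X ≤ 1) : ∃ L : X.Modules, CohB1.IsAmple L := by
  classical
  let CS := {C : Set X | C ∈ irreducibleComponents (X : Type u) ∧ ¬ topologicalKrullDim ↥C ≤ 0}
  have hCS : CS.Finite := NoetherianSpace.finite_irreducibleComponents.subset fun C h => h.1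
  have hpt : ∀ C ∈ CS, ∃ x ∈ C, IsClosed ({x} : Set X) ∧
      ¬ Curv2.IsAssPoint (Coh.structureModule X) x := fun C hC =>
    exists_point_in k hdim (isClosed_of_mem_irreducibleComponents C hC.1) hC.2
  have key : ∀ S : Finset (Set X), (S : Set (Set X)) ⊆ CS → ∃ L : X.Modules, PicF.IsInvertible L ∧
      ∀ (Z : Scheme.{u}) (i : Z ⟶ X) [IsClosedImmersion i] [IsIntegral Z],
        topologicalKrullDim Z = 1 → 0 ≤ degOn k L i ∧ (Set.range i ∈ S → 0 < degOn k L i) := by
    intro S
    induction S using Finset.induction with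
    | empty =>
      intro _
      refine ⟨Coh.structureModule X, CurveDeg.isInvertible_structureModule, fun Z i _ _ _ => ?_⟩
      exact ⟨(degOn_one k i).ge, fun h => absurd h (by simp)⟩
    | insert C S hCS' ih =>
      intro hsub
      rw [Finset.coe_insert, Set.insert_subset_iff] at hsub
      obtain ⟨L, hL, hLd⟩ := ih hsub.2
      obtain ⟨x, hxC, hxc, hxa⟩ := hpt C hsub.1
      obtain ⟨M, hM, hMd⟩ := exists_point_module k hdim hxc hxa
      refine ⟨CohB1.tensorMod L M, H23.PicMul.isInvertible_tensor hL hM, fun Z i _ _ hZ => ?_⟩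
      rw [degOn_tensor k hL hM i hZ]
      obtain ⟨h1, h2⟩ := hLd Z i hZ
      obtain ⟨h3, h4⟩ := hMd Z i hZ
      refine ⟨add_nonneg h1 h3, fun h => ?_⟩
      rcases Finset.mem_insert.1 h with h | h
      · exact add_pos_of_nonneg_of_pos h1 (h4 (h.symm ▸ hxC))
      · exact add_pos_of_pos_of_nonneg (h2 h) h3
  obtain ⟨L, hL, hLd⟩ := key hCS.toFinset (by simp)
  refine ⟨L, isAmple_of_integral k hL fun Z i hi hZ => ?_⟩
  haveI := hi
  haveI := hZ
  letI : Z.Over (Spec (CommRingCat.of k)) := ⟨i ≫ (X ↘ Spec (CommRingCat.of k))⟩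
  haveI : IsProper (Z ↘ Spec (CommRingCat.of k)) :=
    (inferInstance : IsProper (i ≫ (X ↘ Spec (CommRingCat.of k))))
  have hinv := PicClLib.isInvertible_pullback i hL
  have hdZ : topologicalKrullDim Z ≤ 1 := i.isClosedEmbedding.isInducing.topologicalKrullDim_le.trans hdim
  by_cases h1 : topologicalKrullDim Z = 1
  · refine isAmple_of_deg_pos k h1 hinv ((hLd Z i h1).2 (hCS.mem_toFinset.2 ?_))
    have hirr : IsIrreducible (Set.range i) := by
      rw [← Set.image_univ]
      exact (IrreducibleSpace.isIrreducible_univ Z).image _ i.continuous.continuousOn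
    obtain ⟨C, hC, hsub⟩ := exists_mem_irreducibleComponents_subset_of_isIrreducible (Set.range i) hirr
    haveI : IrreducibleSpace ↥C := isIrreducible_iff_irreducibleSpace.1 hC.1
    have hr : topologicalKrullDim ↥(Set.range i) = 1 := by
      rw [← i.isClosedEmbedding.isEmbedding.toHomeomorph.isHomeomorph.topologicalKrullDim_eq, h1]
    have hCd : topologicalKrullDim ↥C ≤ 1 := (topologicalKrullDim_subspace_le _ _).trans hdim
    have heq : Set.range i = C := by
      by_contra hne
      have hlt := H23.TopDim.dim_lt_of_ssubset (X := ↥C) (fun h => by rw [h] at hCd; exact absurd hCd (by decide))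
        (Y := {y : ↥C | (y : X) ∈ Set.range i}) (i.isClosedEmbedding.isClosed_range.preimage continuous_subtype_val)
        (fun h => hne (hsub.antisymm fun y hy => h.ge (Set.mem_univ ⟨y, hy⟩)))
      let g : ↥(Set.range i) → ↥{y : ↥C | (y : X) ∈ Set.range i} := fun y => ⟨⟨y.1, hsub y.2⟩, y.2⟩
      have hcomp : Topology.IsInducing ((Subtype.val ∘ Subtype.val : ↥{y : ↥C | (y : X) ∈ Set.range i} → X) ∘ g) :=
        show Topology.IsInducing (Subtype.val : ↥(Set.range i) → X) from Topology.IsInducing.subtypeVal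
      have hle := ((Topology.IsInducing.subtypeVal.comp Topology.IsInducing.subtypeVal).of_comp_iff.1 hcomp).topologicalKrullDim_le
      rw [hr] at hle
      exact absurd (lt_of_le_of_lt hle (lt_of_lt_of_le hlt hCd)) (lt_irrefl _)
    refine ⟨heq ▸ hC, fun h => ?_⟩
    rw [hr] at h
    exact absurd h (by decide)
  · have hle : topologicalKrullDim Z ≤ 0 := by
      have h2 : topologicalKrullDim Z < (((1 : ℕ) : ℕ∞) : WithBot ℕ∞) := lt_of_le_of_ne hdZ h1
      generalize topologicalKrullDim Z = a at h2 ⊢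
      cases a with
      | bot => exact bot_le
      | coe a =>
        refine WithBot.coe_le_coe.2 (le_of_eq (ENat.lt_one_iff_eq_zero.1 ?_))
        exact_mod_cast WithBot.coe_lt_coe.1 h2
    haveI := (S1529.result k Z hle).1
    exact AmpleX.isAmple_of_isQuasiAffine hinv

/-- Proper of dimension at most one implies projective. -/
theorem exists_closedImmersion_projSpace (hdim : topologicalKrullDim X ≤ 1) :
    ∃ (n : ℕ) (i : X ⟶ CohB1.ProjSpace n k), IsClosedImmersion i ∧
      i ≫ CohB1.ProjSpace.toSpec n k = X ↘ (Spec (CommRingCat.of k)) := by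
  obtain ⟨L, hL⟩ := exists_isAmple k hdim
  exact AmpleEmbed.exists_closedImmersion (X ↘ Spec (CommRingCat.of k)) hL

end Groth.Agent.VarAmp
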