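import Groth.Agent.VarAmp.CurveComponents
import Groth.Agent.InvX.GenLocusPull
import Groth.Agent.AmpleX.SemiAmple
import Groth.Agent.CurveCohLib.Skyscraper
import Groth.Agent.S1519

/-! Invertible modules of nonpositive degree on all components. -/

noncomputable section

set_option linter.style.haveILetI false
set_option linter.unusedSectionVars false
set_option backward.isDefEq.respectTransparency false
set_option backward.isDefEq.respectTransparency.types false

universe u

open CategoryTheory CategoryTheory.Limits AlgebraicGeometry TopologicalSpace Opposite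

namespace Groth.Agent.VarAmp

open Groth.Agent

variable (k : Type u) [Field k] {X : Scheme.{u}} [X.Over (Spec (CommRingCat.of k))]
  [IsProper (X ↘ Spec (CommRingCat.of k))] [IsNoetherian X]

theorem isIso_of_genLocus_eq_top {L : X.Modules} (s : Coh.structureModule X ⟶ L)
    (h : CohB1.genLocus L s = ⊤) : IsIso s := by
  rw [Scheme.Modules.Hom.isIso_iff_isIso_app]
  intro V
  refine (ConcreteCategory.isIso_iff_bijective _).2 ?_
  have hle : V ≤ AmpleX.locus (InvX.one s) := by
    rw [← AmpleX.genLocus_eq_locus, h]; exact le_top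
  have hb := AmpleX.isFrame_res_of_le (InvX.one s) hle V le_rfl
  simp only [AModX.res_res] at hb
  rw [show (s.app V : _ → _) = fun r : Γ(X, V) => r • AModX.res L (le_top : V ≤ ⊤) (InvX.one s) from
    funext fun r => InvX.app_eq_smul s r]
  exact hb

theorem subsingleton_or_trivial_of_nonpos [IsReduced X] [ConnectedSpace X]
    (hdim : ∀ (C : Set X), C ∈ irreducibleComponents (X : Type u) → topologicalKrullDim C = 1)
    {L : X.Modules} (hL : PicF.IsInvertible L)
    (hdeg : ∀ (C : Set X) (hC : C ∈ irreducibleComponents (X : Type u)),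
      @Curv2.deg k _ (X.irreducibleComponentIdeal C hC).radical.subscheme
        ⟨(X.irreducibleComponentIdeal C hC).radical.subschemeι ≫ (X ↘ (Spec (CommRingCat.of k)))⟩
        ((Scheme.Modules.pullback (X.irreducibleComponentIdeal C hC).radical.subschemeι).obj L) 1 ≤ 0) :
    Subsingleton (Coh.HH X L 0) ∨ Nonempty (L ≅ Coh.structureModule X) := by
  by_cases hsub : Subsingleton (Coh.HH X L 0)
  · exact Or.inl hsub
  right
  obtain ⟨t, ht⟩ := not_forall.1 fun h : ∀ t : Coh.HH X L 0, t = 0 =>
    hsub ⟨fun a b => (h a).trans (h b).symm⟩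
  let a : Γ(L, ⊤) := Sheaf.H.equiv₀ (Coh.toAb L) isTerminalTop t
  have ha : a ≠ 0 := fun h => ht ((Sheaf.H.equiv₀ (Coh.toAb L) isTerminalTop).injective
    (h.trans (map_zero _).symm))
  let s := InvX.ofSect a
  have hsg : CohB1.genLocus L s = AmpleX.locus a := by
    rw [AmpleX.genLocus_eq_locus, InvX.one_ofSect]
  set U := CohB1.genLocus L s
  have hne : (U : Set X).Nonempty := by
    rw [Set.nonempty_iff_ne_empty]
    intro h0
    refine ha (AmpleX.eq_zero_of_locus_eq_bot hL a ?_)
    rw [← hsg]
    exact Opens.ext h0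
  -- each component is inside or outside the locus
  have key : ∀ C (hC : C ∈ irreducibleComponents (X : Type u)), ∀ x ∈ C, x ∈ U → C ⊆ (U : Set X) := by
    intro C hC x hxC hxU
    let Z : Closeds X := ⟨C, isClosed_of_mem_irreducibleComponents C hC⟩
    let i := (Scheme.IdealSheafData.vanishingIdeal Z).subschemeι
    letI : (Scheme.IdealSheafData.vanishingIdeal Z).subscheme.Over (Spec (CommRingCat.of k)) :=
      ⟨i ≫ (X ↘ (Spec (CommRingCat.of k)))⟩
    haveI := isIntegral_vanishingIdeal (Z := Z) hC.1
    haveI : IsProper ((Scheme.IdealSheafData.vanishingIdeal Z).subscheme ↘ Spec (CommRingCat.of k)) :=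
      (inferInstance : IsProper (i ≫ (X ↘ _)))
    have hd1 := (dim_subscheme Z).trans (hdim C hC)
    have hdeg' : Curv2.deg k _ ((Scheme.Modules.pullback i).obj L) 1 ≤ 0 := by
      have h' := hdeg C hC
      rwa [radical_componentIdeal C hC] at h'
    obtain ⟨e⟩ := PicClLib.nonempty_pullback_structureModule i
    let σ := e.symm.hom ≫ (Scheme.Modules.pullback i).map s
    have hloc : CohB1.genLocus ((Scheme.Modules.pullback i).obj L) σ = i ⁻¹ᵁ U :=
      InvX.genLocus_pullback i hL s e.symm
    have hr : Set.range i = C := H23.RedSub.range_vanishingIdeal Z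
    obtain ⟨z, hz⟩ := hr.ge hxC
    have hσ : σ ≠ 0 := ne_zero_of_mem_genLocus (x := z) (by rw [hloc]; show i z ∈ U; rw [hz]; exact hxU)
    intro y hy
    obtain ⟨w, rfl⟩ := hr.ge hy
    by_contra hw
    have hw' : w ∉ CohB1.genLocus ((Scheme.Modules.pullback i).obj L) σ := by rw [hloc]; exact hw
    exact absurd (S1519.result k _ hd1 _ (PicClLib.isInvertible_pullback i hL) σ hσ w hw') (not_lt.2 hdeg')
  have hcl : IsClosed (U : Set X) := by
    have heq : (U : Set X) = ⋃ C ∈ {C | C ∈ irreducibleComponents (X : Type u) ∧ C ⊆ (U : Set X)}, C := by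
      refine Set.Subset.antisymm (fun x hx => ?_) (Set.iUnion₂_subset fun C hC => hC.2)
      exact Set.mem_biUnion (x := irreducibleComponent x)
        ⟨irreducibleComponent_mem_irreducibleComponents x,
          key _ (irreducibleComponent_mem_irreducibleComponents x) x mem_irreducibleComponent hx⟩
        mem_irreducibleComponent
    rw [heq]
    exact (NoetherianSpace.finite_irreducibleComponents.subset fun C hC => hC.1).isClosed_biUnion
      fun C hC => isClosed_of_mem_irreducibleComponents C hC.1
  have htop : U = ⊤ := Opens.ext (IsClopen.eq_univ ⟨hcl, U.2⟩ hne)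
  haveI := isIso_of_genLocus_eq_top s htop
  exact ⟨(asIso s).symm⟩

end Groth.Agent.VarAmp
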