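import Groth.Agent.VarAmp.Integral
import Groth.Agent.VarAmp.Positive
import Groth.Agent.Lib.AVAmple
import Groth.Agent.Lib.InvEnd
import Groth.Agent.QCoh.DevissageTheta
import Groth.Agent.HilbPoly.Stab
import Groth.Agent.Dual349.ClosedUnit
import Groth.Agent.AmpleX.QuasiAffine
import Groth.Agent.InvX.GenLocusPull
import Groth.Agent.CurveCohLib.RankTwo

/-! The criterion of Nakai and Moishezon. -/

noncomputable section

set_option linter.style.haveILetI false
set_option linter.unusedSectionVars false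
set_option backward.isDefEq.respectTransparency false
set_option backward.isDefEq.respectTransparency.types false

universe u

open CategoryTheory CategoryTheory.Limits AlgebraicGeometry TopologicalSpace
open Groth.Agent.PnCoh.Finite (mapLin deltaLin)

attribute [local instance] HasDerivedCategory.standard
set_option maxHeartbeats 200000

namespace Groth.Agent.VarAmp

open Groth.Agent Groth.Agent.H23.PicMul

variable {k : Type u} [Field k] {X : Scheme.{u}} [X.Over (Spec (CommRingCat.of k))]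
  [IsProper (X ↘ Spec (CommRingCat.of k))] {L : X.Modules}

local notation "O_" => Coh.structureModule X

include k in
theorem van_zero (hL : PicF.IsInvertible L) {M : X.Modules} (h : IsZero M) : Van L M := by
  refine ⟨0, fun n _ p _ => ?_⟩
  haveI := AmpleVan.isEquivalence_tw (InvX.isInvertible_tensorPow hL n)
  exact Euler.subsingleton_HH_of_isZero ((AmpleVan.tw (CohB1.tensorPow L n)).map_isZero h) p

include k in
/-- Vanishing for modules supported on a proper closed subset, when `L` is ample on those. -/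
theorem van_of_support (hL : PicF.IsInvertible L)
    (hW : ∀ (Z : Scheme.{u}) (i : Z ⟶ X), IsClosedImmersion i → IsIntegral Z → Set.range i ≠ Set.univ →
      CohB1.IsAmple ((Scheme.Modules.pullback i).obj L))
    {M : X.Modules} (hM : Coh.IsCoh M) (hs : CohB1.support M ≠ Set.univ) : Van L M := by
  haveI := CurveCohLib.isNoetherian_of_proper (k := k) (X := X)
  refine QCoh.devissage_ideals (Van L) (fun A B ⟨e⟩ => van_of_iso k e) (fun A => van_zero (k := k) hL)
    (CohB1.support M) (fun S hS _ _ _ h1 h3 => van_ext k hL hS h1 h3) ?_ hM subset_rfl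
  intro ξ hξ _ Z i _ _ hr I ι _ hI _
  haveI : IsLocallyNoetherian Z := LocallyOfFiniteType.isLocallyNoetherian i
  exact van_push k hL i
    (hW Z i inferInstance inferInstance fun h => hs (Set.univ_subset_iff.1 (h ▸ hr ▸ hξ)))
    (QCoh.isCoh_of_mono ι QCoh.isCoh_structureModule' hI)

/-- Twisting by a power. -/
abbrev twp (L : X.Modules) (n : ℕ) : X.Modules ⥤ X.Modules := AmpleVan.tw (CohB1.tensorPow L n)

include k in
theorem isCoh_twp (hL : PicF.IsInvertible L) {M : X.Modules} (hM : Coh.IsCoh M) (n : ℕ) :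
    Coh.IsCoh ((twp L n).obj M) := by
  haveI := CurveCohLib.isNoetherian_of_proper (k := k) (X := X)
  exact HilbPoly.isCoh_pw hL hM n

theorem shortExact_twp (hL : PicF.IsInvertible L) {S : ShortComplex X.Modules} (hS : S.ShortExact)
    (n : ℕ) : (S.map (twp L n)).ShortExact := by
  haveI := AmpleVan.isEquivalence_tw (InvX.isInvertible_tensorPow hL n)
  exact hS.map_of_exact _

include k in
/-- Comparison of cohomology along a map with small cokernel. -/
theorem eventually_compare (hL : PicF.IsInvertible L) {A B : X.Modules} (f : A ⟶ B) [Mono f]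
    (hc : Van L (cokernel f)) :
    ∃ n₀ : ℕ, ∀ n : ℕ, n₀ ≤ n →
      Function.Surjective (mapLin k ((twp L n).map f) 1) ∧
      ∀ p : ℕ, 2 ≤ p → Module.finrank k (Coh.HH X ((twp L n).obj A) p) =
        Module.finrank k (Coh.HH X ((twp L n).obj B) p) := by
  obtain ⟨n₀, hn₀⟩ := hc
  refine ⟨n₀, fun n hn => ?_⟩
  let S := ShortComplex.mk f (cokernel.π f) (cokernel.condition f)
  have hS : S.ShortExact := { exact := ShortComplex.exact_of_g_is_cokernel _ (cokernelIsCokernel f) }
  have hT := shortExact_twp hL hS n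
  have hsub : ∀ q, 0 < q → Subsingleton (Coh.HH X ((S.map (twp L n)).X₃) q) := fun q hq => hn₀ n hn q hq
  have hsurj : ∀ q, 0 < q → Function.Surjective (mapLin k ((twp L n).map f) q) := fun q hq y => by
    haveI := hsub q hq
    have : y ∈ LinearMap.ker (mapLin k (S.map (twp L n)).g q) :=
      LinearMap.mem_ker.2 (Subsingleton.elim _ _)
    rwa [CurveCohLib.ker_mapLin_g k hT q] at this
  refine ⟨hsurj 1 one_pos, fun p hp => ?_⟩
  obtain ⟨q, rfl⟩ : ∃ q, p = q + 1 := ⟨p - 1, by omega⟩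
  haveI := hsub q (by omega)
  have hinj : Function.Injective (mapLin k ((twp L n).map f) (q + 1)) := by
    rw [← LinearMap.ker_eq_bot]
    refine (CurveCohLib.ker_mapLin_f_succ k hT q).trans (LinearMap.range_eq_bot.2 ?_)
    exact LinearMap.ext fun y => by rw [Subsingleton.elim y 0, map_zero]; rfl
  exact (LinearEquiv.ofBijective _ ⟨hinj, hsurj _ (by omega)⟩).finrank_eq

theorem support_ne_univ_of_notMem {M : X.Modules} {x : X} (h : x ∉ CohB1.support M) :
    CohB1.support M ≠ Set.univ := fun he => h (he ▸ Set.mem_univ x)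

/-- An invertible module and the structure sheaf have a common submodule with small cokernels. -/
theorem exists_pair [IsNoetherian X] [IsIntegral X] {N : X.Modules} (hN : PicF.IsInvertible N) :
    ∃ (J A B : X.Modules) (a : J ⟶ A) (b : J ⟶ B), Mono a ∧ Mono b ∧ Nonempty (A ≅ O_) ∧
      Nonempty (B ≅ N) ∧ Coh.IsCoh J ∧ Coh.IsCoh (cokernel a) ∧ Coh.IsCoh (cokernel b) ∧
      CohB1.support (cokernel a) ≠ Set.univ ∧ CohB1.support (cokernel b) ≠ Set.univ := by
  let ξ := genericPoint X
  obtain ⟨U, hξU, ⟨τ⟩⟩ := hN ξ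
  let M := (Coh.push (𝟙 X)).obj O_
  let e : M ≅ O_ := (Scheme.Modules.pushforwardId X).app O_
  let P := CohB1.tensorMod M N
  obtain ⟨e'⟩ : Nonempty (P ≅ N) := H23.PicMul.cl_eq_iff.1 (by
    show PicF.cl (CohB1.tensorMod M N) = _
    rw [H23.PicMul.cl_tensor, H23.PicMul.cl_eq_iff.2 ⟨e⟩, ← H23.PicMul.one_def, one_mul])
  have hM : Coh.IsCoh M := QCoh.isCoh_push_structure (𝟙 X)
  have hP : Coh.IsCoh P := AmpleVan.isCoh_tensor hM (AmpleVan.isCoh_invertible hN)
  haveI : Mono (HilbPoly.resUnit U M) := HilbPoly.mono_resUnit_push (𝟙 X) hξU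
  haveI : Mono (HilbPoly.resUnit U P) := HilbPoly.mono_resUnit_tensor hN
  let R := Scheme.Modules.restrictFunctor U.ι
  let θ : R.obj P ≅ R.obj M :=
    ((KFlatLib.restrictTensorBiIso U.ι).app M).app N ≪≫
      ((DCoh.tensorBi (X := (U : Scheme.{u}))).obj (R.obj M)).mapIso τ ≪≫ AmpleVan.twUnit.app (R.obj M)
  let g : P ⟶ (Scheme.Modules.pushforward U.ι).obj (R.obj M) :=
    HilbPoly.resUnit U P ≫ (Scheme.Modules.pushforward U.ι).map θ.hom
  haveI : Mono g := mono_comp _ _
  haveI : IsIso (R.map ((Scheme.Modules.pushforward U.ι).map θ.hom)) := inferInstance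
  haveI : IsIso (R.map g) := by rw [Functor.map_comp]; infer_instance
  haveI : QuasiCompact U.ι := inferInstance
  have hJq : Coh.IsQCoh (pullback (HilbPoly.resUnit U M) g) :=
    HilbPoly.isQCoh_pullback hM.1 hP.1
      (QCoh.isQCoh_pushforward U.ι (QCoh.isQCoh_restrict U.ι hM.1)) _ _
  let a := pullback.fst (HilbPoly.resUnit U M) g
  let b := pullback.snd (HilbPoly.resUnit U M) g
  haveI : IsIso (R.map a) := HilbPoly.isIso_restrict_fst U _ g
  haveI : IsIso (R.map b) := HilbPoly.isIso_restrict_snd U _ g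
  exact ⟨_, M, P, a, b, inferInstance, inferInstance, ⟨e⟩, ⟨e'⟩, QCoh.isCoh_of_mono a hM hJq,
    QCoh.isCoh_cokernel hJq hM a, QCoh.isCoh_cokernel hJq hP b,
    support_ne_univ_of_notMem
      (HilbPoly.notMem_support_of_isZero_restrict (HilbPoly.isZero_restrict_cokernel U a) hξU),
    support_ne_univ_of_notMem
      (HilbPoly.notMem_support_of_isZero_restrict (HilbPoly.isZero_restrict_cokernel U b) hξU)⟩

variable [IsIntegral X]
  (hW : ∀ (Z : Scheme.{u}) (i : Z ⟶ X), IsClosedImmersion i → IsIntegral Z → Set.range i ≠ Set.univ →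
    CohB1.IsAmple ((Scheme.Modules.pullback i).obj L))

include k hW in
/-- Cohomology in degrees at least two is eventually constant. -/
theorem high_const (hL : PicF.IsInvertible L) :
    ∃ n₀ : ℕ, ∀ p, 2 ≤ p → ∀ n, n₀ ≤ n →
      Module.finrank k (Coh.HH X ((twp L n).obj O_) p) =
        Module.finrank k (Coh.HH X ((twp L n₀).obj O_) p) := by
  haveI := CurveCohLib.isNoetherian_of_proper (k := k) (X := X)
  obtain ⟨J, A, B, a, b, _, _, ⟨eA⟩, ⟨eB⟩, -, hca, hcb, hsa, hsb⟩ := exists_pair hL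
  obtain ⟨n₁, hn₁⟩ := eventually_compare (k := k) hL a (van_of_support (k := k) hL hW hca hsa)
  obtain ⟨n₂, hn₂⟩ := eventually_compare (k := k) hL b (van_of_support (k := k) hL hW hcb hsb)
  refine ⟨max n₁ n₂, fun p hp n hn => ?_⟩
  induction n, hn using Nat.le_induction with
  | base => rfl
  | succ n hn ih =>
    rw [← ih]
    obtain ⟨e⟩ : Nonempty ((twp L n).obj L ≅ (twp L (n + 1)).obj O_) := H23.PicMul.cl_eq_iff.1 (by
      show PicF.cl (CohB1.tensorMod L (CohB1.tensorPow L n)) =
        PicF.cl (CohB1.tensorMod O_ (CohB1.tensorPow L (n + 1)))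
      rw [H23.PicMul.cl_tensor, H23.PicMul.cl_tensor, H23.PicMul.cl_tensorPow,
        H23.PicMul.cl_tensorPow, ← H23.PicMul.one_def, one_mul, pow_succ'])
    rw [← (CurveCohLib.hhEquiv (k := k) ((twp L n).mapIso eB ≪≫ e) p).finrank_eq,
      ← (hn₂ n ((le_max_right _ _).trans hn)).2 p hp, (hn₁ n ((le_max_left _ _).trans hn)).2 p hp,
      (CurveCohLib.hhEquiv (k := k) ((twp L n).mapIso eA) p).finrank_eq]

include k in
theorem exists_hom_of_finrank_pos {M N : X.Modules} (e : M ≅ N)
    (h0 : 0 < Module.finrank k (Coh.HH X M 0)) : ∃ s : O_ ⟶ N, s ≠ 0 := by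
  haveI : Nontrivial (Coh.HH X M 0) := Module.nontrivial_of_finrank_pos h0
  obtain ⟨x, hx⟩ := exists_ne (0 : Coh.HH X M 0)
  let a : Γ(M, ⊤) := Sheaf.H.equiv₀ (Coh.toAb M) isTerminalTop x
  refine ⟨InvX.ofSect a ≫ e.hom, fun h => hx ?_⟩
  apply (Sheaf.H.equiv₀ (Coh.toAb M) isTerminalTop).injective
  rw [map_zero]
  have h4 : InvX.ofSect a = 0 := by rw [← cancel_mono e.hom, h, zero_comp]
  have h5 := congrArg InvX.one h4
  rw [InvX.one_ofSect] at h5
  exact h5

theorem eventually_gt {P : Polynomial ℚ} {d : ℕ} (hd : 0 < d) (hdeg : P.natDegree ≤ d)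
    (h : 0 < StabCat.alpha d P) (C : ℤ) :
    ∃ M : ℕ, ∀ m : ℕ, M ≤ m → (C : ℚ) < P.eval (m : ℚ) := by
  have hc : 0 < (P - Polynomial.C (C : ℚ)).coeff d := by
    rw [Polynomial.coeff_sub, Polynomial.coeff_C_of_ne_zero hd.ne', sub_zero]
    rw [StabCat.alpha] at h
    exact pos_of_mul_pos_right h (Nat.cast_nonneg _)
  obtain ⟨M, hM⟩ := HilbPoly.eventually_pos (d := d)
    ((Polynomial.natDegree_sub_le _ _).trans (by rw [Polynomial.natDegree_C]; omega)) hc
  refine ⟨M, fun m hm => ?_⟩
  have h3 := hM m hm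
  rwa [Polynomial.eval_sub, Polynomial.eval_C, sub_pos] at h3

include k hW in
/-- The Euler characteristic differs from `h⁰ - h¹` by a constant eventually. -/
theorem euler_const (hL : PicF.IsInvertible L) :
    ∃ (n₀ : ℕ) (C : ℤ), ∀ n, n₀ ≤ n → Curv2.euler k X ((twp L n).obj O_) =
      (Module.finrank k (Coh.HH X ((twp L n).obj O_) 0) : ℤ) -
        Module.finrank k (Coh.HH X ((twp L n).obj O_) 1) + C := by
  haveI := CurveCohLib.isNoetherian_of_proper (k := k) (X := X)
  obtain ⟨n₀, hn₀⟩ := high_const (k := k) hW hL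
  haveI : QuasiSeparatedSpace X := quasiSeparatedSpace_of_quasiSeparated (X ↘ Spec (CommRingCat.of k))
  obtain ⟨N, hN⟩ := QCoh.exists_HH_bound (X := X)
  refine ⟨n₀, ∑ i ∈ Finset.range N, (-1 : ℤ) ^ (i + 2) *
    (Module.finrank k (Coh.HH X ((twp L n₀).obj O_) (i + 2)) : ℤ), fun n hn => ?_⟩
  rw [CurveCohLib.euler_eq_sum (N := N + 2) fun i hi =>
    hN _ (isCoh_twp (k := k) hL QCoh.isCoh_structureModule' n).1 i (by omega),
    Finset.sum_range_succ', Finset.sum_range_succ',
    Finset.sum_congr rfl fun i _ => by rw [hn₀ (i + 1 + 1) (by omega) n hn]]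
  ring

include k hW in
/-- Some power has a nonzero section. -/
theorem exists_section (hL : PicF.IsInvertible L) {d : ℕ} (hd : 0 < d)
    (hdim : topologicalKrullDim X = (d : WithBot ℕ∞))
    (hpos : 0 < HilbPoly.mult k L d O_) :
    ∃ (m : ℕ) (s : O_ ⟶ CohB1.tensorPow L m), 0 < m ∧ s ≠ 0 := by
  haveI := CurveCohLib.isNoetherian_of_proper (k := k) (X := X)
  obtain ⟨P, hP, hdeg, hlead⟩ := HilbPoly.exists_poly (HilbPoly.additive_euler k) hL
    QCoh.isCoh_structureModule' (F := O_) (d := d)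
    (by rw [support_structureModule, (Homeomorph.Set.univ X).isHomeomorph.topologicalKrullDim_eq, hdim])
  obtain ⟨n₀, C, hC⟩ := euler_const (k := k) hW hL
  obtain ⟨M, hM⟩ := eventually_gt hd hdeg (by rw [hlead]; exact Int.cast_pos.2 hpos) C
  let n := max (max n₀ M) 1
  have h3 : C < Curv2.euler k X (HilbPoly.pw L O_ n) := by
    have h := hM n (le_trans (le_max_right n₀ M) (le_max_left _ 1))
    rw [← hP n] at h
    exact Int.cast_lt.1 h
  have h4 := hC n (le_trans (le_max_left n₀ M) (le_max_left _ 1))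
  change C < Curv2.euler k X ((twp L n).obj O_) at h3
  obtain ⟨e⟩ : Nonempty ((twp L n).obj O_ ≅ CohB1.tensorPow L n) := H23.PicMul.cl_eq_iff.1 (by
    show PicF.cl (CohB1.tensorMod O_ (CohB1.tensorPow L n)) = _
    rw [H23.PicMul.cl_tensor, ← H23.PicMul.one_def, one_mul])
  obtain ⟨s, hs⟩ := exists_hom_of_finrank_pos (k := k) e (by omega)
  exact ⟨n, s, le_max_right _ 1, hs⟩

omit [IsIntegral X] in
/-- Maps to modules on a point kill sections vanishing there. -/
theorem comp_eq_zero_of_notMem {Z : Scheme.{u}} [IsReduced Z] (j : Z ⟶ X) {M : X.Modules}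
    (hM : PicF.IsInvertible M) (t : O_ ⟶ M) (ht : ∀ w : Z, j w ∉ CohB1.genLocus M t) {G : Z.Modules}
    (φ : M ⟶ (Scheme.Modules.pushforward j).obj G) : t ≫ φ = 0 := by
  let adj := Scheme.Modules.pullbackPushforwardAdjunction j
  apply (adj.homEquiv _ _).symm.injective
  rw [Adjunction.homEquiv_naturality_left_symm]
  let e := CurveBC.unitIso j
  have h1 : e.inv ≫ (Scheme.Modules.pullback j).map t = 0 := by
    have hg := InvX.genLocus_pullback j hM t e.symm
    rw [AmpleX.genLocus_eq_locus] at hg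
    have h2 : InvX.one (e.inv ≫ (Scheme.Modules.pullback j).map t) = 0 :=
      AmpleX.eq_zero_of_locus_eq_bot (PicClLib.isInvertible_pullback j hM) _
        (hg.trans (eq_bot_iff.2 fun w hw => (ht w hw).elim))
    exact CurveRR.hom_ext_one (h2.trans rfl)
  have h2 : (Scheme.Modules.pullback j).map t = 0 := by rw [← cancel_epi e.inv, h1, comp_zero]
  rw [h2, zero_comp]
  simp [Adjunction.homEquiv_counit]

include k hW in
/-- A section of a power gives eventual surjectivity onto the cokernel. -/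
theorem eventually_surjective (hL : PicF.IsInvertible L) {m : ℕ} (hm : 0 < m)
    (s : O_ ⟶ CohB1.tensorPow L m) [Mono s] (hQ : Coh.IsCoh (cokernel s))
    (hQs : CohB1.support (cokernel s) ≠ Set.univ) :
    ∃ n₁ : ℕ, ∀ n, n₁ ≤ n →
      Function.Surjective (((twp L (m * n)).map (cokernel.π s)).app ⊤) := by
  haveI := CurveCohLib.isNoetherian_of_proper (k := k) (X := X)
  obtain ⟨n₀, hn₀⟩ := eventually_compare (k := k) hL s (van_of_support (k := k) hL hW hQ hQs)
  let c : ℕ → ℕ := fun n => Module.finrank k (Coh.HH X ((twp L (m * n)).obj O_) 1)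
  have heP : ∀ n, Nonempty ((twp L (m * n)).obj (CohB1.tensorPow L m) ≅ (twp L (m * (n + 1))).obj O_) :=
    fun n => H23.PicMul.cl_eq_iff.1 (by
      show PicF.cl (CohB1.tensorMod (CohB1.tensorPow L m) (CohB1.tensorPow L (m * n))) =
        PicF.cl (CohB1.tensorMod O_ (CohB1.tensorPow L (m * (n + 1))))
      rw [H23.PicMul.cl_tensor, H23.PicMul.cl_tensor, H23.PicMul.cl_tensorPow,
        H23.PicMul.cl_tensorPow, H23.PicMul.cl_tensorPow, ← H23.PicMul.one_def, one_mul, ← pow_add]
      congr 1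
      ring)
  have hfin : ∀ n, Module.Finite k (Coh.HH X ((twp L n).obj O_) 1) := fun n =>
    CurveCohLib.finite_HH (isCoh_twp (k := k) hL QCoh.isCoh_structureModule' n) 1
  have hle : ∀ n, n₀ ≤ n → c (n + 1) ≤ c n := fun n hn => by
    haveI := hfin (m * n)
    obtain ⟨e⟩ := heP n
    show _ ≤ _
    simp only [c]
    rw [← (CurveCohLib.hhEquiv (k := k) e 1).finrank_eq]
    exact LinearMap.finrank_le_finrank_of_surjective
      (hn₀ (m * n) (hn.trans (Nat.le_mul_of_pos_left n hm))).1
  classical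
  have hex : ∃ v, ∃ n, n₀ ≤ n ∧ c n = v := ⟨c n₀, n₀, le_rfl, rfl⟩
  obtain ⟨n₁, hn₁, hmin⟩ := Nat.find_spec hex
  have hconst : ∀ n, n₁ ≤ n → c n = c n₁ := fun n hn => by
    refine le_antisymm ?_ (hmin ▸ Nat.find_min' hex ⟨n, hn₁.trans hn, rfl⟩)
    induction n, hn using Nat.le_induction with
    | base => exact le_rfl
    | succ n hn ih => exact (hle n (hn₁.trans hn)).trans ih
  refine ⟨n₁, fun n hn q => ?_⟩
  haveI := hfin (m * n)
  haveI := hfin (m * (n + 1))
  obtain ⟨e⟩ := heP n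
  let Q := ShortComplex.mk s (cokernel.π s) (cokernel.condition s)
  have hQex : Q.ShortExact := { exact := ShortComplex.exact_of_g_is_cokernel _ (cokernelIsCokernel s) }
  have hT := shortExact_twp hL hQex (m * n)
  have hinj : Function.Injective (mapLin k ((twp L (m * n)).map s) 1) := by
    haveI : Module.Finite k (Coh.HH X ((twp L (m * n)).obj (CohB1.tensorPow L m)) 1) :=
      Module.Finite.equiv (CurveCohLib.hhEquiv (k := k) e 1).symm
    refine (LinearMap.injective_iff_surjective_of_finrank_eq_finrank ?_).2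
      (hn₀ (m * n) ((hn₁.trans hn).trans (Nat.le_mul_of_pos_left n hm))).1
    rw [(CurveCohLib.hhEquiv (k := k) e 1).finrank_eq]
    exact (hconst n hn).trans (hconst (n + 1) (hn.trans (Nat.le_succ n))).symm
  have hsurj : Function.Surjective (mapLin k (Q.map (twp L (m * n))).g 0) := by
    rw [← LinearMap.range_eq_top, ← CurveCohLib.ker_deltaLin k hT 0, LinearMap.ker_eq_top,
      ← LinearMap.range_eq_bot, ← CurveCohLib.ker_mapLin_f_succ k hT 0]
    exact LinearMap.ker_eq_bot.2 hinj
  obtain ⟨y, hy⟩ := hsurj ((Sheaf.H.equiv₀ (Coh.toAb (Q.map (twp L (m * n))).X₃) isTerminalTop).symm q)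
  refine ⟨Sheaf.H.equiv₀ (Coh.toAb (Q.map (twp L (m * n))).X₂) isTerminalTop y, ?_⟩
  refine (Sheaf.H.equiv₀_naturality isTerminalTop ((QCoh.toAbFunctor X).map (Q.map (twp L (m * n))).g) y).trans ?_
  rw [show Sheaf.H.map ((QCoh.toAbFunctor X).map (Q.map (twp L (m * n))).g) 0 y = _ from hy]
  exact AddEquiv.apply_symm_apply _ _

omit [IsIntegral X] in
theorem not_isZero_push_pullback {Z : Scheme.{u}} (j : Z ⟶ X) (w : Z) {P : X.Modules}
    (hP : PicF.IsInvertible P) :
    ¬ IsZero ((Scheme.Modules.pushforward j).obj ((Scheme.Modules.pullback j).obj P)) := fun h => by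
  have h1 : (Scheme.Modules.pullbackPushforwardAdjunction j).unit.app P = 0 := h.eq_of_tgt _ _
  have h2 : 𝟙 ((Scheme.Modules.pullback j).obj P) = 0 := by
    apply ((Scheme.Modules.pullbackPushforwardAdjunction j).homEquiv _ _).injective
    rw [Adjunction.homEquiv_id]
    exact h1.trans (by simp [Adjunction.homEquiv_unit])
  obtain ⟨V, hwV, v, hv⟩ := InvX.exists_frame (PicClLib.isInvertible_pullback j hP) w
  have hv0 : v = 0 := congrArg (fun φ : (Scheme.Modules.pullback j).obj P ⟶ _ => φ.app V v) h2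
  have h6 := (hv.germ_bijective hwV).1 (a₁ := 1) (a₂ := 0)
    (by simp only [hv0, map_zero, smul_zero])
  exact one_ne_zero h6

omit [IsIntegral X] in
theorem not_isZero_twp (hL : PicF.IsInvertible L) (n : ℕ) {S : X.Modules} (hS : ¬ IsZero S) :
    ¬ IsZero ((twp L n).obj S) := fun h => by
  haveI := AmpleVan.isEquivalence_tw (InvX.isInvertible_tensorPow hL n)
  exact hS ((IsZero.iff_id_eq_zero _).2
    ((twp L n).map_injective (by rw [(twp L n).map_zero]; exact h.eq_of_src _ _)))

include k hW in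
/-- Sections of the cokernel map onto those of its nonzero quotients at a closed point. -/
theorem eventually_quotient (hL : PicF.IsInvertible L) {Q S : X.Modules} (hQ : Coh.IsCoh Q)
    (hS : Coh.IsCoh S) (hQs : CohB1.support Q ≠ Set.univ) (π : Q ⟶ S) [Epi π] {z : X}
    (hz : IsClosed ({z} : Set X)) (hSs : CohB1.support S ⊆ {z}) (hS0 : ¬ IsZero S) :
    ∃ n₂ : ℕ, ∀ n, n₂ ≤ n → ∃ q : Γ((twp L n).obj Q, ⊤), ((twp L n).map π).app ⊤ q ≠ 0 := by
  haveI := CurveCohLib.isNoetherian_of_proper (k := k) (X := X)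
  have hK : Coh.IsCoh (kernel π) := QCoh.isCoh_kernel hQ hS π
  have hKs : CohB1.support (kernel π) ≠ Set.univ := by
    refine fun h => hQs (Set.eq_univ_of_forall fun y => ?_)
    have hy : y ∈ CohB1.support (kernel π) := h ▸ Set.mem_univ y
    refine fun hsub => hy ?_
    haveI : Subsingleton ↑((DerSch.stalkFunctor X y).obj Q) := hsub
    exact ((ModuleCat.mono_iff_injective _).1 inferInstance :
      Function.Injective ((DerSch.stalkFunctor X y).map (kernel.ι π)).hom).subsingleton
  obtain ⟨n₂, hn₂⟩ := van_of_support (k := k) hL hW hK hKs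
  refine ⟨n₂, fun n hn => ?_⟩
  let K := ShortComplex.mk (kernel.ι π) π (kernel.condition π)
  have hKex : K.ShortExact := { exact := ShortComplex.exact_of_f_is_kernel _ (kernelIsKernel π) }
  obtain ⟨q₀, hq₀⟩ : ∃ q : Γ((twp L n).obj S, ⊤), q ≠ 0 := by
    by_contra! hc
    refine not_isZero_twp hL n hS0
      (CurveCohLib.isZero_of_closedSupport (isCoh_twp (k := k) hL hS _) (fun y hy => ?_) hc)
    rw [hSs (HilbPoly.support_tensor_subset _ _ hy)]
    exact hz
  obtain ⟨q, hq⟩ := QCoh.app_top_surjective_of_HH_one (shortExact_twp hL hKex n) (hn₂ n hn 1 one_pos) q₀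
  exact ⟨q, fun h => hq₀ (hq.symm.trans h)⟩

omit [IsIntegral X] in
/-- A section with nonzero image at a point does not vanish there. -/
theorem mem_locus_of_image_ne_zero (hL : PicF.IsInvertible L) {Z : Scheme.{u}} [IsReduced Z] (j : Z ⟶ X)
    {z : X} (hjz : ∀ w, j w = z) {P : X.Modules} (hP : PicF.IsInvertible P) (n : ℕ) (G : Z.Modules)
    (π : P ⟶ (Scheme.Modules.pushforward j).obj G) (t : Γ((twp L n).obj P, ⊤))
    (ht : ((twp L n).map π).app ⊤ t ≠ 0) : z ∈ AmpleX.locus t := by
  by_contra hcon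
  have hP' : PicF.IsInvertible ((twp L n).obj P) :=
    InvX.isInvertible_tensorMod hP (InvX.isInvertible_tensorPow hL _)
  obtain ⟨ψ⟩ := VarInt.nonempty_push_tensor j G (InvX.isInvertible_tensorPow hL n)
  have h1 := comp_eq_zero_of_notMem j hP' (InvX.ofSect t)
    (fun w => by rw [hjz w, AmpleX.genLocus_eq_locus, InvX.one_ofSect]; exact hcon)
    ((twp L n).map π ≫ ψ.hom)
  rw [← Category.assoc] at h1
  have h2 : InvX.ofSect t ≫ (twp L n).map π = 0 := by
    rw [← cancel_mono ψ.hom]
    exact h1.trans zero_comp.symm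
  refine ht ?_
  have h3 : ((twp L n).map π).app ⊤ (InvX.one (InvX.ofSect t)) = 0 :=
    congrArg (fun φ : O_ ⟶ (twp L n).obj ((Scheme.Modules.pushforward j).obj G) => InvX.one φ) h2
  rwa [InvX.one_ofSect] at h3

include k hW in
/-- A point where a nonzero section vanishes is avoided by a section of some power. -/
theorem exists_mem_locus (hL : PicF.IsInvertible L) {m : ℕ} (hm : 0 < m)
    (s : O_ ⟶ CohB1.tensorPow L m) (hs : s ≠ 0) {z : X} (hz : IsClosed ({z} : Set X)) :
    ∃ n : ℕ, 0 < n ∧ ∃ t : Γ(CohB1.tensorPow L n, ⊤), z ∈ AmpleX.locus t := by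
  haveI := CurveCohLib.isNoetherian_of_proper (k := k) (X := X)
  have hP : PicF.IsInvertible (CohB1.tensorPow L m) := InvX.isInvertible_tensorPow hL m
  by_cases hzs : z ∈ CohB1.genLocus (CohB1.tensorPow L m) s
  · exact ⟨m, hm, InvX.one s, by rw [← AmpleX.genLocus_eq_locus]; exact hzs⟩
  haveI : Mono s := InvEnd.mono_of_ne_zero InvX.isInvertible_structureModule hP s hs
  obtain ⟨x, hx⟩ : ∃ x, x ∈ AmpleX.locus (InvX.one s) := by
    by_contra! hc
    exact hs (CurveRR.hom_ext_one
      ((AmpleX.eq_zero_of_locus_eq_bot hP _ (eq_bot_iff.2 fun x h => (hc x h).elim)).trans rfl))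
  rw [← AmpleX.genLocus_eq_locus] at hx
  obtain ⟨U, hU, hxU⟩ : ∃ U : X.Opens,
      IsIso ((Scheme.Modules.restrictFunctor U.ι).map s) ∧ x ∈ U :=
    TopologicalSpace.Opens.mem_sSup.1 hx
  haveI := hU
  have hQ : Coh.IsCoh (cokernel s) :=
    QCoh.isCoh_cokernel QCoh.isCoh_structureModule'.1 (AmpleVan.isCoh_invertible hP) s
  have hQs : CohB1.support (cokernel s) ≠ Set.univ :=
    support_ne_univ_of_notMem
      (HilbPoly.notMem_support_of_isZero_restrict (HilbPoly.isZero_restrict_cokernel U s) hxU)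
  obtain ⟨n₁, hn₁⟩ := eventually_surjective (k := k) hW hL hm s hQ hQs
  let Zc : Closeds X := ⟨{z}, hz⟩
  let j := (Scheme.IdealSheafData.vanishingIdeal Zc).subschemeι
  haveI : IsReduced (Scheme.IdealSheafData.vanishingIdeal Zc).subscheme :=
    H23.RedSub.isReduced_vanishingIdeal Zc
  haveI : IsLocallyNoetherian (Scheme.IdealSheafData.vanishingIdeal Zc).subscheme :=
    LocallyOfFiniteType.isLocallyNoetherian j
  have hrange : Set.range j = {z} := H23.RedSub.range_vanishingIdeal Zc
  have hjz : ∀ w, j w = z := fun w => by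
    have h : j w ∈ Set.range j := ⟨w, rfl⟩
    rwa [hrange] at h
  obtain ⟨w, -⟩ : ∃ w, j w = z := by rw [← Set.mem_range, hrange]; rfl
  have hG := AmpleVan.isCoh_invertible (PicClLib.isInvertible_pullback j hP)
  let π := (Scheme.Modules.pullbackPushforwardAdjunction j).unit.app (CohB1.tensorPow L m)
  have hsπ : s ≫ π = 0 := comp_eq_zero_of_notMem j hP s (fun w => by rw [hjz w]; exact hzs) π
  haveI : Epi π := inferInstance
  haveI : Epi (cokernel.desc s π hsπ) := epi_of_epi_fac (cokernel.π_desc s π hsπ)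
  obtain ⟨n₂, hn₂⟩ := eventually_quotient (k := k) hW hL hQ (QCoh.isCoh_push j hG) hQs
    (cokernel.desc s π hsπ) hz (hrange ▸ QCoh.support_push_subset j hG.1)
    (not_isZero_push_pullback j w hP)
  obtain ⟨q, hq⟩ := hn₂ (m * max n₁ n₂) ((le_max_right _ _).trans (Nat.le_mul_of_pos_left _ hm))
  obtain ⟨t₁, ht₁⟩ := hn₁ (max n₁ n₂) (le_max_left _ _) q
  have hz' : z ∈ AmpleX.locus t₁ := by
    refine mem_locus_of_image_ne_zero hL j hjz hP _ _ π t₁ ?_
    rw [show (twp L (m * max n₁ n₂)).map π = (twp L (m * max n₁ n₂)).map (cokernel.π s) ≫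
      (twp L (m * max n₁ n₂)).map (cokernel.desc s π hsπ) by rw [← Functor.map_comp, cokernel.π_desc]]
    intro h
    refine hq ?_
    rw [← ht₁]
    exact h
  obtain ⟨t, ht⟩ := AmpleX.exists_locus_cl (N := CohB1.tensorPow L (m + m * max n₁ n₂))
    (show PicF.cl (CohB1.tensorMod (CohB1.tensorPow L m) (CohB1.tensorPow L (m * max n₁ n₂))) = _ by
      rw [H23.PicMul.cl_tensor, H23.PicMul.cl_tensorPow, H23.PicMul.cl_tensorPow,
        H23.PicMul.cl_tensorPow, ← pow_add]) t₁
  exact ⟨m + m * max n₁ n₂, by omega, t, ht ▸ hz'⟩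

include k hW in
/-- Some power is generated by its sections. -/
theorem exists_generated (hL : PicF.IsInvertible L) {d : ℕ} (hd : 0 < d)
    (hdim : topologicalKrullDim X = (d : WithBot ℕ∞))
    (hpos : 0 < HilbPoly.mult k L d O_) :
    ∃ N : ℕ, 0 < N ∧ ∀ x : X, ∃ t : Γ(CohB1.tensorPow L N, ⊤), x ∈ AmpleX.locus t := by
  haveI := CurveCohLib.isNoetherian_of_proper (k := k) (X := X)
  haveI : JacobsonSpace X := LocallyOfFiniteType.jacobsonSpace (X ↘ Spec (CommRingCat.of k))
  obtain ⟨m, s, hm, hs⟩ := exists_section (k := k) hW hL hd hdim hpos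
  have hpt : ∀ x : X, ∃ n : ℕ, 0 < n ∧ ∃ t : Γ(CohB1.tensorPow L n, ⊤), x ∈ AmpleX.locus t := fun x => by
    obtain ⟨z, hz, hzc⟩ := IsClosed.exists_closed_singleton (isClosed_closure (s := ({x} : Set X)))
      ⟨x, subset_closure rfl⟩
    obtain ⟨n, hn, t, ht⟩ := exists_mem_locus (k := k) hW hL hm s hs hzc
    exact ⟨n, hn, t, (specializes_iff_mem_closure.2 hz).mem_open (AmpleX.locus t).isOpen ht⟩
  choose n hn t ht using hpt
  obtain ⟨S, hS⟩ := isCompact_univ.elim_finite_subcover (fun x => (AmpleX.locus (t x) : Set X))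
    (fun x => (AmpleX.locus (t x)).isOpen) (fun x _ => Set.mem_iUnion.2 ⟨x, ht x⟩)
  refine ⟨∏ x ∈ S, n x, Finset.prod_pos fun x _ => hn x, fun x => ?_⟩
  obtain ⟨i, hi⟩ := Set.mem_iUnion.1 (hS (Set.mem_univ x))
  obtain ⟨hiS, hxi⟩ := Set.mem_iUnion.1 hi
  obtain ⟨b, hb⟩ := Finset.dvd_prod_of_mem n hiS
  have hb0 : 0 < b := by
    have hp : 0 < ∏ x ∈ S, n x := Finset.prod_pos fun x _ => hn x
    rw [hb] at hp
    exact Nat.pos_of_mul_pos_left hp
  obtain ⟨t', ht'⟩ := AmpleX.exists_pow_section hL (t i) hb0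
  rw [hb]
  exact ⟨t', ht' ▸ hxi⟩

end Groth.Agent.VarAmp
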